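import Cfsg.Agent.Lib.Chev.SubFin.Ctx

/-!
The stabiliser of the highest root group in a subgroup whose radical part lies over the subfield.
-/

set_option autoImplicit false
set_option linter.unusedSectionVars false

namespace CfsgLib.Chev

open Cfsg.Lie Matrix SubMax

namespace SubFin.Ctx

variable {D : ChevalleyDatum} {K : Type*} [Field K] [Fintype K] (C : Ctx D K)

/-- The radical part of the subgroup lies over the subfield. -/
def QRat : Prop := ∀ x ∈ C.H, x ∈ topQ D K → x ∈ C.M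

/-- Torus elements over the subfield times central elements of the radical are over the subfield. -/
def StabRat : Prop := ∀ d ∈ D.diagonalSubgroup K, C.sG d = d → ∀ f : ℕ → K,
  (∀ r, f r ≠ 0 → r ∈ radSet D ∧ ∀ a ∈ radSet D, (nRad C.g r a : K) = 0) →
  d * C.g.xProd f (half D) ∈ C.H → C.sG (C.g.xProd f (half D)) = C.g.xProd f (half D)

/-- Rationality at the stabiliser of the highest root group. -/
def RadRat : Prop := C.QRat ∧ C.StabRat

/-- An element over the subfield is a torus element times an element of the subgroup. -/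
lemma fixed_decomp {x : GL D.Idx K} (hx : x ∈ D.group K) (hfix : C.sG x = x) :
    ∃ l ∈ C.M, ∃ d ∈ D.diagonalSubgroup K, C.sG d = d ∧ x = l * d := by
  have h1 : ∀ q : Fin D.rank, (0 : ℝ) ≤ (fun _ => (1 : ℝ)) q := fun _ => zero_le_one
  obtain ⟨m, hm, hb⟩ := C.coset_rational h1 hx (c := fun _ => 1) (by rw [hfix, inv_mul_cancel]; exact one_mem _)
  rw [C.g.geSub_inf_group C.hc h1] at hb
  have hB : m⁻¹ * x ∈ D.borelSubgroup K := by
    refine (show D.parabolicSubgroup K _ ≤ D.borelSubgroup K from sup_le le_rfl ((Subgroup.closure_le _).2 ?_)) hb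
    rintro z ⟨j, hj, hjr, -⟩
    exact absurd (hj hjr) one_ne_zero
  obtain ⟨v, hv, d, hd, hvd⟩ := C.g.mem_borel.1 hB
  have h2 : C.sG v * C.sG d = v * d := by
    rw [← map_mul, hvd, map_mul, map_inv, hfix, hm.2]
    rfl
  have hsplit : v⁻¹ * C.sG v = d * (C.sG d)⁻¹ := by
    rw [eq_mul_inv_iff_mul_eq, mul_assoc, h2, inv_mul_cancel_left]
  have h3 : v⁻¹ * C.sG v ∈ D.posUnipotent K ⊓ D.diagonalSubgroup K :=
    Subgroup.mem_inf.2 ⟨mul_mem (inv_mem hv) (C.g.scalarGL_pos C.E.σ hv),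
      hsplit ▸ mul_mem hd (inv_mem (C.g.scalarGL_diag C.E.σ hd))⟩
  rw [C.g.pos_inf_diagonal, Subgroup.mem_bot] at h3
  have hd' : C.sG d = d := (mul_inv_eq_one.1 (hsplit.symm.trans h3)).symm
  refine ⟨m * v, mul_mem hm (C.pos_mem_M hv (inv_mul_eq_one.1 h3).symm), d, hd, hd', ?_⟩
  rw [mul_assoc, hvd, mul_inv_cancel_left]

/-- The stabiliser part of the overgroup lies over the subfield. -/
theorem mem_M_of_topP (hQ : C.RadRat) {h : GL D.Idx K} (hh : h ∈ C.H) (hP : h ∈ topP C.g K) : h ∈ C.M := by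
  have hfix : ∀ a ∈ radSet D, h⁻¹ * C.sG h * C.g.xG a 1 * (h⁻¹ * C.sG h)⁻¹ = C.g.xG a 1 := by
    intro a ha
    have haM := C.xG_mem_M ha.1 (t := 1) (map_one _)
    have h1 : h * C.g.xG a 1 * h⁻¹ ∈ topQ D K := (Subgroup.mem_normalizer_iff.1
      (topP_le_normalizer C.g C.hc C.T C.hse hP) _).1 (C.g.mem_rootGen ha.1 ha 1)
    have h2 := (hQ.1 _ (mul_mem (mul_mem hh (C.M_le_H haM)) (inv_mem hh)) h1).2
    have h3 : C.sG h * C.g.xG a 1 * (C.sG h)⁻¹ = h * C.g.xG a 1 * h⁻¹ := by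
      have h4 : C.sG (C.g.xG a 1) = C.g.xG a 1 := haM.2
      rw [← map_inv, ← h4, ← map_mul, ← map_mul, h4]
      exact h2
    rw [show h⁻¹ * C.sG h * C.g.xG a 1 * (h⁻¹ * C.sG h)⁻¹ =
      h⁻¹ * (C.sG h * C.g.xG a 1 * (C.sG h)⁻¹) * h by group, h3]
    group
  have hdQ := mem_topQ_of_commute C.g C.hc C.T (mul_mem (inv_mem (C.hi hh)) (C.sG_mem_group (C.hi hh))) hfix
  obtain ⟨f, hf, hd⟩ := exists_coords C.g C.hc C.T hdQ
  have hz : ∀ r ∈ radSet D, ∀ a ∈ radSet D, (nRad C.g r a : K) * f r = 0 := fun r hr a ha =>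
    nRad_mul_eq_zero C.g C.hc C.T hf (fun b hb => hd ▸ hfix b hb) hr ha
  have hσ : ∀ f : ℕ → K, C.sG (C.g.xProd f (half D)) = C.g.xProd (fun r => C.E.σ (f r)) (half D) :=
    fun f => C.g.scalarGL_xProd C.E.σ f _
  have hiter : ∀ k : ℕ, h⁻¹ * (C.sG^[k]) h =
      C.g.xProd (fun r => ∑ i ∈ Finset.range k, (C.E.σ)^[i] (f r)) (half D) := by
    intro k
    induction k with
    | zero => simp [Good.xProd, C.g.xG_zero]
    | succ k ih =>
      have h1 : h⁻¹ * (C.sG^[k + 1]) h = (h⁻¹ * C.sG h) * C.sG (h⁻¹ * (C.sG^[k]) h) := by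
        rw [map_mul, map_inv, Function.iterate_succ_apply']
        group
      rw [h1, ih, hd, hσ, xProd_add C.g C.hc C.T hf (fun r hr => by simp [hf r hr]) fun r hr a ha => by
        have := hz r hr a ha
        rcases mul_eq_zero.1 this with h0 | h0
        · rw [h0, zero_mul]
        · simp [h0]]
      congr 1
      funext r
      rw [Pi.add_apply, map_sum, Finset.sum_range_succ', add_comm]
      simp [Function.iterate_succ_apply']
  have hr0 : ∀ r ∈ radSet D, ∑ i ∈ Finset.range C.E.r, (C.E.σ)^[i] (f r) = 0 := by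
    intro r hr
    have h1 := hiter C.E.r
    have h2 : (C.sG^[C.E.r]) h = h := by
      refine Units.ext (Matrix.ext fun a b => ?_)
      have h3 : ∀ k, (((C.sG^[k]) h : GL D.Idx K) : Matrix D.Idx D.Idx K) a b =
          (C.E.σ)^[k] ((h : Matrix D.Idx D.Idx K) a b) := fun k => by
        induction k with
        | zero => rfl
        | succ k ih => rw [Function.iterate_succ_apply', Function.iterate_succ_apply', ← ih]; rfl
      rw [h3, C.E.iterate_r]
    rw [h2, inv_mul_cancel] at h1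
    have h4 : C.g.xProd (fun _ => (0 : K)) (half D) =
        C.g.xProd (fun r => ∑ i ∈ Finset.range C.E.r, (C.E.σ)^[i] (f r)) (half D) := by
      rw [← h1]; simp [Good.xProd, C.g.xG_zero]
    exact (C.g.xProd_inj le_rfl h4 hr.2.1 hr.1).symm
  classical
  obtain ⟨f0, hf0⟩ : ∃ f0 : ℕ → K, ∀ r, if f r = 0 then f0 r = 0 else C.E.σ (f0 r) - f0 r = f r := by
    have h1 : ∀ r, ∃ e : K, if f r = 0 then e = 0 else C.E.σ e - e = f r := fun r => by
      by_cases h0 : f r = 0
      · exact ⟨0, by rw [if_pos h0]⟩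
      · obtain ⟨e, he⟩ := C.E.exists_sub (hr0 r (by_contra fun h => h0 (hf r h)))
        exact ⟨e, by rw [if_neg h0]; exact he⟩
    choose f0 hf0 using h1
    exact ⟨f0, hf0⟩
  have hσf0 : ∀ r, C.E.σ (f0 r) = f r + f0 r := fun r => by
    have := hf0 r
    by_cases h0 : f r = 0
    · rw [if_pos h0] at this; simp [this, h0]
    · rw [if_neg h0] at this; rw [← this, sub_add_cancel]
  have hf0s : ∀ r, r ∉ radSet D → f0 r = 0 := fun r hr => by
    have := hf0 r; rwa [if_pos (hf r hr)] at this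
  have hz0 : ∀ r ∈ radSet D, ∀ a ∈ radSet D, (nRad C.g r a : K) * f0 r = 0 := fun r hr a ha => by
    by_cases h0 : f r = 0
    · have := hf0 r; rw [if_pos h0] at this; rw [this, mul_zero]
    · rw [(mul_eq_zero.1 (hz r hr a ha)).resolve_right h0, zero_mul]
  obtain ⟨F0, hF0⟩ : ∃ F0, F0 = C.g.xProd f0 (half D) := ⟨_, rfl⟩
  have hsF0 : C.sG F0 = h⁻¹ * C.sG h * F0 := by
    rw [hd, hF0, hσ, xProd_add C.g C.hc C.T hf hf0s hz0]
    exact congrArg (fun f => C.g.xProd f (half D)) (funext hσf0)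
  have hF0Q : F0 ∈ topQ D K := by
    rw [hF0, Good.xProd]
    refine Subgroup.list_prod_mem _ fun x hx => ?_
    obtain ⟨r, hr, rfl⟩ := List.mem_map.1 hx
    by_cases hrad : r ∈ radSet D
    · exact C.g.mem_rootGen hrad.1 hrad _
    · rw [hf0s r hrad, C.g.xG_zero]; exact one_mem _
  have hcF : Commute (h⁻¹ * C.sG h) F0 := by
    show _ * _ = _ * _
    rw [hd, hF0, xProd_add C.g C.hc C.T hf hf0s hz0, xProd_add C.g C.hc C.T hf0s hf hz, add_comm]
  have hm : C.sG (h * F0⁻¹) = h * F0⁻¹ := by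
    rw [map_mul, map_inv, hsF0, hcF.eq]
    group
  obtain ⟨l, hl, d, hd', hdσ, hld⟩ := C.fixed_decomp
    (mul_mem (C.hi hh) (inv_mem (Subgroup.mem_inf.1 (topQ_le_topP C.g C.hc C.T hF0Q)).2)) hm
  have hdF : d * F0 ∈ C.H := by
    rw [show d * F0 = l⁻¹ * h by rw [eq_inv_mul_iff_mul_eq, ← mul_assoc, ← hld, inv_mul_cancel_right]]
    exact mul_mem (inv_mem (C.M_le_H hl)) hh
  have hfix0 : C.sG F0 = F0 := by
    rw [hF0] at hdF ⊢
    refine hQ.2 d hd' hdσ f0 (fun r hr => ?_) hdF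
    have hrad : r ∈ radSet D := by_contra fun h => hr (hf0s r h)
    exact ⟨hrad, fun a ha => (mul_eq_zero.1 (hz0 r hrad a ha)).resolve_right hr⟩
  refine ⟨hh, ?_⟩
  show C.sG h = h
  calc C.sG h = C.sG (h * F0⁻¹) * C.sG F0 := by rw [← map_mul, inv_mul_cancel_right]
    _ = h := by rw [hm, hfix0, inv_mul_cancel_right]

end SubFin.Ctx

end CfsgLib.Chev
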