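import Mathlib
import Cfsg.Agent.Lib.Chev.FrobMap

/-!
A finite field extension of any degree: the fixed field of `t ↦ t ^ q`, closed sets of parameters, and the
additive form of Hilbert's theorem 90.
-/

set_option autoImplicit false

namespace CfsgLib.Chev.SubFin

variable {K : Type*} [Field K] [Fintype K]

/-- The data of an extension. -/
structure FExt (K : Type*) [Field K] [Fintype K] where
  /-- the order of the small field -/
  q : ℕ
  /-- the degree -/
  r : ℕ
  /-- the map `t ↦ t ^ q` -/
  σ : K →+* K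
  hq : 1 < q
  hr : 0 < r
  hK : Fintype.card K = q ^ r
  hσ : ∀ t, σ t = t ^ q

namespace FExt

variable (E : FExt K)

/-- The fixed field. -/
def F0 : Subfield K := RingHom.eqLocusField E.σ (RingHom.id K)

lemma mem_F0 {t : K} : t ∈ E.F0 ↔ E.σ t = t := Iff.rfl

lemma card_F0 : Nat.card E.F0 = E.q := by
  rw [← card_pow_eq_self E.hq E.hK]
  exact Nat.card_congr (Equiv.subtypeEquivRight fun t => by rw [mem_F0, E.hσ])

lemma finrank_eq : Module.finrank E.F0 K = E.r := by
  have h := Module.natCard_eq_pow_finrank (K := E.F0) (V := K)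
  rw [Nat.card_eq_fintype_card, E.hK, E.card_F0] at h
  exact (Nat.pow_right_injective E.hq h).symm

/-- A subgroup closed under multiplication containing the fixed field is the fixed field of a power of `σ`. -/
theorem exists_deg_of_closed (A : AddSubgroup K) (hF : ∀ t, E.σ t = t → t ∈ A)
    (hmul : ∀ a ∈ A, ∀ b ∈ A, a * b ∈ A) :
    ∃ d, 0 < d ∧ d ∣ E.r ∧ ∀ t, t ∈ A ↔ t ^ E.q ^ d = t := by
  classical
  let S : Subalgebra E.F0 K :=
    { carrier := A
      mul_mem' := fun {a b} ha hb => hmul a ha b hb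
      one_mem' := hF 1 (map_one _)
      add_mem' := fun {a b} ha hb => A.add_mem ha hb
      zero_mem' := A.zero_mem
      algebraMap_mem' := fun a => hF _ a.2 }
  let _ : Field S := Fintype.fieldOfDomain S
  obtain ⟨d, hd⟩ : ∃ d, d = Module.finrank E.F0 S := ⟨_, rfl⟩
  have hS : Fintype.card S = E.q ^ d := by
    rw [← Nat.card_eq_fintype_card, Module.natCard_eq_pow_finrank (K := E.F0) (V := S), E.card_F0, hd]
  have hd0 : 0 < d := by
    rcases Nat.eq_zero_or_pos d with h | h
    · have h1 : 1 < Fintype.card S := Fintype.one_lt_card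
      rw [hS, h, pow_zero] at h1
      omega
    · exact h
  have hdr : d ∣ E.r := by
    have h1 := Module.natCard_eq_pow_finrank (K := S) (V := K)
    rw [Nat.card_eq_fintype_card, Nat.card_eq_fintype_card, E.hK, hS, ← pow_mul] at h1
    exact ⟨_, Nat.pow_right_injective E.hq h1⟩
  refine ⟨d, hd0, hdr, ?_⟩
  have hsub : ∀ t ∈ A, t ^ E.q ^ d = t := fun t ht => by
    have h1 := congrArg Subtype.val (FiniteField.pow_card (⟨t, ht⟩ : S))
    rw [hS, SubmonoidClass.coe_pow] at h1
    exact h1
  obtain ⟨e, he⟩ := hdr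
  have hcard : Nat.card {c : K // c ^ E.q ^ d = c} = E.q ^ d :=
    card_pow_eq_self (Nat.one_lt_pow hd0.ne' E.hq) (by rw [E.hK, he, pow_mul])
  intro t
  refine ⟨hsub t, fun ht => ?_⟩
  have hbij : Function.Bijective (fun x : S => (⟨x.1, hsub _ x.2⟩ : {c : K // c ^ E.q ^ d = c})) := by
    refine (Fintype.bijective_iff_injective_and_card _).2
      ⟨fun x y h => Subtype.ext (congrArg Subtype.val h :), ?_⟩
    rw [hS, ← Nat.card_eq_fintype_card, hcard]
  obtain ⟨x, hx⟩ := hbij.2 ⟨t, ht⟩
  have h1 : x.1 = t := congrArg Subtype.val hx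
  exact h1 ▸ x.2

lemma iterate_apply (i : ℕ) (t : K) : (E.σ)^[i] t = t ^ E.q ^ i := by
  induction i with
  | zero => simp
  | succ i ih => rw [Function.iterate_succ_apply', ih, E.hσ, ← pow_mul, pow_succ]

lemma iterate_r (t : K) : (E.σ)^[E.r] t = t := by
  rw [E.iterate_apply, ← E.hK, FiniteField.pow_card]

/-- Additive Hilbert 90. -/
theorem exists_sub {e : K} (he : ∑ i ∈ Finset.range E.r, (E.σ)^[i] e = 0) :
    ∃ f : K, E.σ f - f = e := by
  classical
  let L : K →+ K := E.σ.toAddMonoidHom - AddMonoidHom.id K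
  let S : Finset K := Finset.univ.filter fun t => ∑ i ∈ Finset.range E.r, (E.σ)^[i] t = 0
  have hker : Nat.card L.ker = E.q := by
    rw [← E.card_F0]
    refine Nat.card_congr (Equiv.subtypeEquivRight fun t => ?_)
    rw [AddMonoidHom.mem_ker, mem_F0]
    simp [L, sub_eq_zero]
  have hrange : Nat.card L.range = E.q ^ (E.r - 1) := by
    have h1 := AddSubgroup.card_eq_card_quotient_mul_card_addSubgroup L.ker
    rw [Nat.card_congr (QuotientAddGroup.quotientKerEquivRange L).toEquiv, hker, Nat.card_eq_fintype_card,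
      E.hK] at h1
    have h2 : E.q ^ E.r = E.q ^ (E.r - 1) * E.q := by
      rw [← pow_succ, Nat.sub_add_cancel E.hr]
    rw [h2] at h1
    exact (Nat.eq_of_mul_eq_mul_right (by have := E.hq; omega) h1).symm
  have hsub : ∀ y ∈ L.range, y ∈ S := by
    rintro _ ⟨f, rfl⟩
    simp only [S, Finset.mem_filter, Finset.mem_univ, true_and]
    have : ∀ i, (E.σ)^[i] (L f) = (E.σ)^[i + 1] f - (E.σ)^[i] f := fun i => by
      simp [L, iterate_map_sub, Function.iterate_succ_apply]
    rw [Finset.sum_congr rfl fun i _ => this i, Finset.sum_range_sub (fun i => (E.σ)^[i] f), E.iterate_r]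
    simp
  let P : Polynomial K := ∑ i ∈ Finset.range E.r, Polynomial.X ^ (E.q ^ i)
  have hPdeg : P.natDegree ≤ E.q ^ (E.r - 1) := by
    refine Polynomial.natDegree_sum_le_of_forall_le _ _ fun i hi => ?_
    rw [Polynomial.natDegree_X_pow]
    exact Nat.pow_le_pow_right (by have := E.hq; omega) (by have := Finset.mem_range.1 hi; omega)
  have hP0 : P ≠ 0 := by
    intro h
    have h1 : P.coeff 1 = 1 := by
      simp only [P, Polynomial.finsetSum_coeff, Polynomial.coeff_X_pow]
      rw [Finset.sum_eq_single 0]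
      · simp
      · intro i _ hi0
        rw [if_neg]
        exact (Nat.one_lt_pow hi0 E.hq).ne
      · intro h0
        exact absurd (Finset.mem_range.2 E.hr) h0
    rw [h] at h1
    simp at h1
  have hS : S.card ≤ E.q ^ (E.r - 1) := by
    refine le_trans (Polynomial.card_le_degree_of_subset_roots (p := P) ?_) hPdeg
    intro t ht
    rw [Finset.mem_val, Finset.mem_filter] at ht
    rw [Polynomial.mem_roots hP0, Polynomial.IsRoot]
    simp only [P, Polynomial.eval_finsetSum, Polynomial.eval_pow, Polynomial.eval_X]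
    rw [← ht.2]
    exact Finset.sum_congr rfl fun i _ => (E.iterate_apply i t).symm
  let R : Finset K := Finset.univ.filter fun t => t ∈ L.range
  have hR : R.card = E.q ^ (E.r - 1) := by
    rw [← hrange, Nat.card_eq_fintype_card, ← Fintype.card_subtype]
  have hRS : R = S := Finset.eq_of_subset_of_card_le (fun t ht => hsub t (by simpa [R] using ht))
    (hS.trans_eq hR.symm)
  have : e ∈ R := hRS ▸ Finset.mem_filter.2 ⟨Finset.mem_univ _, he⟩
  obtain ⟨f, hf⟩ := (Finset.mem_filter.1 this).2
  exact ⟨f, by simpa [L] using hf⟩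

end FExt

end CfsgLib.Chev.SubFin
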