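import Cfsg.Agent.Lib.Chev.SubMaxCent
import Cfsg.Agent.Lib.Chev.SubFin.Field
import Cfsg.Agent.Lib.Chev.FixedFrob

/-!
A subgroup containing the root elements over a subfield: rational cosets and fusion of long root elements.
-/

set_option autoImplicit false
set_option linter.unusedSectionVars false

namespace CfsgLib.Chev

open Cfsg.Lie Matrix

namespace SubFin

open SubMax (top topW radSet TopData topC topP topQ top_lt half_le_top topC_nonneg mem_topP_of_conj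
  exists_scalar exists_word_of_long exists_word_top xG_inj)

/-- The setting. -/
structure Ctx (D : ChevalleyDatum) (K : Type*) [Field K] [Fintype K] where
  g : Good D
  hc : HasComm D
  hse : SuppEq D
  long : ℕ → Bool
  T : TopData g long
  E : FExt K
  H : Subgroup (GL D.Idx K)
  lo : ∀ r < D.nroots, ∀ t : K, E.σ t = t → g.xG r t ∈ H
  hi : H ≤ D.group K

namespace Ctx

variable {D : ChevalleyDatum} {K : Type*} [Field K] [Fintype K] (C : Ctx D K)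

/-- The entrywise field map. -/
abbrev sG : GL D.Idx K →* GL D.Idx K := scalarGL D C.E.σ

/-- The elements over the subfield of the subgroup. -/
def M : Subgroup (GL D.Idx K) :=
  C.H ⊓ MonoidHom.eqLocus C.sG (MonoidHom.id _)

lemma mem_M {x : GL D.Idx K} : x ∈ C.M ↔ x ∈ C.H ∧ C.sG x = x := Iff.rfl

lemma M_le_H : C.M ≤ C.H := inf_le_left

lemma M_le_group : C.M ≤ D.group K := C.M_le_H.trans C.hi

lemma sG_xG {r : ℕ} (hr : r < D.nroots) (t : K) : C.sG (C.g.xG r t) = C.g.xG r (C.E.σ t) :=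
  C.g.scalarGL_xG C.E.σ hr t

lemma sG_wordN (l : List (Fin D.rank)) : C.sG (C.g.wordN l) = C.g.wordN l := C.g.scalarGL_wordN C.E.σ l

lemma xG_mem_M {r : ℕ} (hr : r < D.nroots) {t : K} (ht : C.E.σ t = t) : C.g.xG r t ∈ C.M :=
  ⟨C.lo r hr t ht, by show C.sG _ = _; rw [C.sG_xG hr, ht]; rfl⟩

lemma nG_mem_M {r : ℕ} (hr : r < D.nroots) {u : Kˣ} (hu : C.E.σ (u : K) = (u : K)) : C.g.nG r u ∈ C.M :=
  mul_mem (mul_mem (C.xG_mem_M hr hu) (C.xG_mem_M (C.g.neg_lt hr)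
    (by rw [map_neg, Units.val_inv_eq_inv_val, map_inv₀, hu]))) (C.xG_mem_M hr hu)

lemma hG_mem_M {r : ℕ} (hr : r < D.nroots) {u : Kˣ} (hu : C.E.σ (u : K) = (u : K)) : C.g.hG r u ∈ C.M := by
  rw [C.g.hG_eq hr]
  exact mul_mem (C.nG_mem_M hr hu) (C.nG_mem_M hr (by simp))

lemma wordN_mem_M (l : List (Fin D.rank)) : (C.g.wordN l : GL D.Idx K) ∈ C.M := by
  induction l with
  | nil => rw [C.g.wordN_nil]; exact one_mem _
  | cons i l ih => rw [C.g.wordN_cons]; exact mul_mem (C.nG_mem_M (C.g.simple_lt i.2) (by simp)) ih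

/-- A positive element over the subfield is in the subgroup. -/
lemma pos_mem_M {v : GL D.Idx K} (hv : v ∈ D.posUnipotent K) (hfix : C.sG v = v) : v ∈ C.M := by
  rw [C.g.posUnipotent_eq] at hv
  obtain ⟨t, rfl⟩ := C.g.exists_xProd C.hc le_rfl hv
  have h1 : C.g.xProd (fun r => C.E.σ (t r)) (half D) = C.g.xProd t (half D) := by
    rw [← C.g.scalarGL_xProd]; exact hfix
  refine Subgroup.list_prod_mem _ fun x hx => ?_
  obtain ⟨r, hr, rfl⟩ := List.mem_map.1 hx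
  rw [List.mem_range'_1] at hr
  exact C.xG_mem_M (by omega) (C.g.xProd_inj le_rfl h1 hr.1 (by omega))

lemma sG_mem_group {x : GL D.Idx K} (hx : x ∈ D.group K) : C.sG x ∈ D.group K := by
  refine (show D.group K ≤ (D.group K).comap C.sG from C.g.group_le fun r hr t => ?_) hx
  rw [Subgroup.mem_comap, C.sG_xG hr]
  exact C.g.xG_mem_group hr _

lemma sG_rootGen {S : Set ℕ} {x : GL D.Idx K} (hx : x ∈ rootGen D K S) : C.sG x ∈ rootGen D K S :=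
  C.g.scalarGL_rootGen C.E.σ S (Subgroup.mem_map_of_mem _ hx)

lemma sG_geSub {c : Fin D.rank → ℝ} {x : GL D.Idx K} (hx : x ∈ C.g.geSub c) : C.sG x ∈ C.g.geSub c := by
  intro a b hne
  refine hx a b fun h0 => hne ?_
  show ((x : Matrix D.Idx D.Idx K).map C.E.σ) a b = 0
  rw [Matrix.map_apply, h0, map_zero]

lemma sG_topP {x : GL D.Idx K} (hx : x ∈ topP C.g K) : C.sG x ∈ topP C.g K :=
  ⟨C.sG_geSub hx.1, C.sG_mem_group hx.2⟩

lemma xG_mem_geSub {c : Fin D.rank → ℝ} {r : ℕ} (hr : r < D.nroots) (h : 0 ≤ C.g.lam c ⟨r, hr⟩) (t : K) :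
    C.g.xG r t ∈ C.g.geSub c := by
  rw [C.g.mem_geSub, C.g.coe_xG]
  exact C.g.x_ge hr h t

lemma xG_mem_posSub {c : Fin D.rank → ℝ} {r : ℕ} (hr : r < D.nroots) (h : 0 < C.g.lam c ⟨r, hr⟩) (t : K) :
    C.g.xG r t ∈ C.g.posSub c := by
  rw [C.g.mem_posSub]
  refine ⟨C.xG_mem_geSub hr h.le t, fun a b hne => ?_⟩
  rw [C.g.coe_xG] at hne
  by_cases hab : a = b
  · subst hab
    have hw : C.g.wt r ≠ 0 := by
      rcases Nat.lt_or_ge r (half D) with hneg | hp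
      · have h1 := C.g.wt_pos ((C.g.neg_neg_iff (C.g.neg_lt hr)).1 (by rwa [C.g.neg_neg hr])) (C.g.neg_lt hr)
        rw [C.g.wt_neg hr] at h1
        omega
      · exact (C.g.wt_pos hp hr).ne'
    rw [Matrix.sub_apply, Matrix.one_apply_eq, (C.g.x_entry hr t a a).1 rfl hw, sub_self] at hne
    exact absurd rfl hne
  · rw [Matrix.sub_apply, Matrix.one_apply_ne hab, sub_zero] at hne
    obtain ⟨k, hk, e⟩ := C.g.x_entry_lam c hr t a b hne hab
    rw [e]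
    exact mul_pos (by exact_mod_cast hk) h

/-- A fixed coset of a parabolic subgroup has a representative over the subfield. -/
theorem coset_rational {c : Fin D.rank → ℝ} (hdom : ∀ q, 0 ≤ c q) {x : GL D.Idx K}
    (hx : x ∈ D.group K) (hfix : x⁻¹ * C.sG x ∈ C.g.geSub c) :
    ∃ m ∈ C.M, m⁻¹ * x ∈ C.g.geSub c ⊓ D.group K := by
  obtain ⟨g, hg⟩ : ∃ g : Good D, g = C.g := ⟨_, rfl⟩
  obtain ⟨b, hb, n, hn, π, -, hπ, u, hu, rfl⟩ := C.g.exists_canonical C.hc hx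
  obtain ⟨l, hl⟩ := C.g.exists_wordN hn
  obtain ⟨w, hw⟩ : ∃ w, w = (C.g.wordN l : GL D.Idx K) := ⟨_, rfl⟩
  obtain ⟨σ, hσ⟩ : ∃ σ : Equiv.Perm (Fin D.nroots), σ = (C.g.wperm l)⁻¹ := ⟨_, rfl⟩
  have hwa : C.g.Acts w⁻¹ σ := by rw [hw, hσ]; exact C.g.acts_inv (C.g.acts_wordN l)
  have hwM : w ∈ C.M := hw ▸ C.wordN_mem_M l
  obtain ⟨v, hv, d, hd, rfl⟩ := C.g.mem_borel.1 hb
  obtain ⟨S, hS⟩ : ∃ S : Set ℕ, S = {r | ∃ h : r < D.nroots, C.g.lam c (σ ⟨r, h⟩) < 0} := ⟨_, rfl⟩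
  rw [C.g.posUnipotent_eq] at hv
  obtain ⟨a, ha, a', ha', rfl⟩ := C.g.Ici_split C.hc S (half D) le_rfl v hv
  obtain ⟨P, hP⟩ : ∃ P, P = C.g.geSub (F := K) c ⊓ D.group K := ⟨_, rfl⟩
  have hBP : D.borelSubgroup K ≤ P := hP ▸ le_inf (C.g.borel_le_geSub hdom) C.g.borel_le_group
  have hneg : ∀ z ∈ rootGen D K (Set.Ici (half D) ∩ S), w⁻¹ * z * w ∈ C.g.posSub (-c) := by
    intro z hz
    refine (show rootGen D K (Set.Ici (half D) ∩ S) ≤ (C.g.posSub (-c)).comap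
      (MulAut.conj w⁻¹).toMonoidHom from C.g.rootGen_le fun r hr hrn t => ?_) hz |> fun h => by
        simpa using h
    obtain ⟨_, hlt⟩ := hS ▸ hr.2
    obtain ⟨e, he⟩ := hwa ⟨r, hrn⟩
    rw [Subgroup.mem_comap]
    show w⁻¹ * C.g.xG r t * (w⁻¹)⁻¹ ∈ _
    rw [show w⁻¹ * C.g.xG r t * (w⁻¹)⁻¹ = C.g.xG (σ ⟨r, hrn⟩) ((e : K) * t) from he t]
    exact C.xG_mem_posSub (σ ⟨r, hrn⟩).2 (by rw [C.g.lam_neg]; linarith) _
  have hnn : w⁻¹ * a' * w ∈ P := by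
    refine (show rootGen D K (Set.Ici (half D) \ S) ≤ P.comap (MulAut.conj w⁻¹).toMonoidHom from
      C.g.rootGen_le fun r hr hrn t => ?_) ha' |> fun h => by simpa using h
    obtain ⟨e, he⟩ := hwa ⟨r, hrn⟩
    rw [Subgroup.mem_comap]
    show w⁻¹ * C.g.xG r t * (w⁻¹)⁻¹ ∈ _
    rw [show w⁻¹ * C.g.xG r t * (w⁻¹)⁻¹ = C.g.xG (σ ⟨r, hrn⟩) ((e : K) * t) from he t, hP]
    refine Subgroup.mem_inf.2 ⟨C.xG_mem_geSub (σ ⟨r, hrn⟩).2 ?_ _, C.g.xG_mem_group (σ ⟨r, hrn⟩).2 _⟩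
    have h1 : r ∉ S := hr.2
    rw [hS] at h1
    exact not_lt.1 fun h => h1 ⟨hrn, h⟩
  obtain ⟨p, hp⟩ : ∃ p, p = w⁻¹ * a' * w * (w⁻¹ * d * w) * ((w⁻¹ * n) * u) := ⟨_, rfl⟩
  have hpP : p ∈ P := by
    rw [hp]
    refine mul_mem (mul_mem hnn ?_) (mul_mem (hBP (Subgroup.mem_sup_right (hw ▸ hl)))
      (hBP (Subgroup.mem_sup_left (C.g.minus_le_pos π hu))))
    have h1 := C.g.diag_conj (inv_mem (C.g.wordN_mem (F := K) l)) hd
    rw [inv_inv, ← hw] at h1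
    exact hBP (Subgroup.mem_sup_right h1)
  have hxe : a * a' * d * n * u = a * w * p := by rw [hp]; group
  rw [hxe] at hfix ⊢
  have hsp : C.sG p ∈ C.g.geSub c := C.sG_geSub (hP ▸ hpP).1
  have hpg : p ∈ C.g.geSub c := (hP ▸ hpP).1
  have hfixw : C.sG w = w := hwM.2
  rw [map_mul, map_mul, hfixw] at hfix
  have h2 : w⁻¹ * (a⁻¹ * C.sG a) * w ∈ C.g.geSub c := by
    have := mul_mem (mul_mem hpg hfix) (inv_mem hsp)
    rw [show p * ((a * w * p)⁻¹ * (C.sG a * w * C.sG p)) * (C.sG p)⁻¹ =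
      w⁻¹ * (a⁻¹ * C.sG a) * w by group] at this
    exact this
  have h3 := hneg _ (mul_mem (inv_mem ha) (C.sG_rootGen ha))
  have h4 : w⁻¹ * (a⁻¹ * C.sG a) * w = 1 := C.g.eq_one_of_pos_neg h3 (by rw [neg_neg]; exact h2)
  have h5 : C.sG a = a := by
    have : a⁻¹ * C.sG a = 1 := by
      calc a⁻¹ * C.sG a = w * (w⁻¹ * (a⁻¹ * C.sG a) * w) * w⁻¹ := by group
        _ = 1 := by rw [h4]; group
    exact (inv_mul_eq_one.1 this).symm
  have haM : a ∈ C.M :=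
    C.pos_mem_M (by rw [C.g.posUnipotent_eq]; exact C.g.rootGen_mono (fun r hr _ => hr.1) ha) h5
  refine ⟨a * w, mul_mem haM hwM, ?_⟩
  rw [show (a * w)⁻¹ * (a * w * p) = p by group]
  exact hP ▸ hpP

/-- A conjugate of an element of the highest root group. -/
def IsTopConj (z : GL D.Idx K) : Prop :=
  ∃ h ∈ D.group K, ∃ s : K, s ≠ 0 ∧ z = h * C.g.xG (top D) s * h⁻¹

lemma isTopConj_long {a : Fin D.nroots} (ha : C.long a = true) {t : K} (ht : t ≠ 0) :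
    C.IsTopConj (C.g.xG a t) := by
  obtain ⟨l, hl⟩ := exists_word_of_long C.g C.T ha
  obtain ⟨e, he⟩ := C.g.acts_wordN (F := K) l ⟨top D, top_lt C.g⟩
  refine ⟨C.g.wordN l, C.g.monomial_le_group (C.g.wordN_mem l), ((e⁻¹ : Kˣ) : K) * t,
    mul_ne_zero (Units.ne_zero _) ht, ?_⟩
  rw [show C.g.wordN l * C.g.xG (top D) (((e⁻¹ : Kˣ) : K) * t) * (C.g.wordN l)⁻¹ =
    C.g.xG (C.g.wperm l ⟨top D, top_lt C.g⟩) ((e : K) * (((e⁻¹ : Kˣ) : K) * t)) from he _, hl,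
    ← mul_assoc, Units.mul_inv, one_mul]

lemma isTopConj_conj {z h : GL D.Idx K} (hh : h ∈ D.group K) (hz : C.IsTopConj z) :
    C.IsTopConj (h * z * h⁻¹) := by
  obtain ⟨k, hk, s, hs, rfl⟩ := hz
  exact ⟨h * k, mul_mem hh hk, s, hs, by group⟩

/-- Long root elements over the subfield are conjugate over the subfield. -/
theorem exists_conj_of_fixed {z : GL D.Idx K} (hz : C.IsTopConj z) (hfix : C.sG z = z) :
    ∃ m ∈ C.M, ∃ s : K, s ≠ 0 ∧ C.E.σ s = s ∧ z = m * C.g.xG (top D) s * m⁻¹ := by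
  obtain ⟨h, hh, s, hs, rfl⟩ := hz
  rw [map_mul, map_mul, map_inv, C.sG_xG (top_lt C.g)] at hfix
  have h1 : h⁻¹ * C.sG h * C.g.xG (top D) (C.E.σ s) * (h⁻¹ * C.sG h)⁻¹ = C.g.xG (top D) s := by
    rw [show h⁻¹ * C.sG h * C.g.xG (top D) (C.E.σ s) * (h⁻¹ * C.sG h)⁻¹ =
      h⁻¹ * (C.sG h * C.g.xG (top D) (C.E.σ s) * (C.sG h)⁻¹) * h by group, hfix]
    group
  have hσs : C.E.σ s ≠ 0 := (map_ne_zero C.E.σ).2 hs
  have h2 := mem_topP_of_conj C.g C.hc C.T (mul_mem (inv_mem hh) (C.sG_mem_group hh)) hσs h1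
  obtain ⟨m, hm, hp⟩ := C.coset_rational (topC_nonneg C.g C.T) hh h2.1
  obtain ⟨e, he⟩ := exists_scalar C.g C.hc C.T hp
  have h3 : h * C.g.xG (top D) s * h⁻¹ = m * C.g.xG (top D) ((e : K) * s) * m⁻¹ := by
    rw [← he s]; group
  refine ⟨m, hm, (e : K) * s, mul_ne_zero e.ne_zero hs, ?_, h3⟩
  have h4 : C.sG (m * C.g.xG (top D) ((e : K) * s) * m⁻¹) = m * C.g.xG (top D) ((e : K) * s) * m⁻¹ := by
    rw [← h3, map_mul, map_mul, map_inv, C.sG_xG (top_lt C.g), hfix]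
  rw [map_mul, map_mul, map_inv, C.sG_xG (top_lt C.g), hm.2] at h4
  exact xG_inj C.g (top_lt C.g) (mul_left_cancel (mul_right_cancel h4))

end Ctx

end SubFin

end CfsgLib.Chev
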