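import Cfsg.Agent.Lib.Chev.SubFin.Special
import Cfsg.Agent.Lib.Chev.ShortRootGen

/-!
The parameters of the highest root group in a subgroup form a field, and all root groups have them.
-/

set_option autoImplicit false
set_option linter.unusedSectionVars false
set_option maxRecDepth 100000

namespace CfsgLib.Chev.SubFin

open Cfsg.Lie Matrix CfsgLib.Chev SubMax

variable {D : ChevalleyDatum} {K : Type*} [Field K] [Fintype K]

namespace Ctx

variable (C : Ctx D K)

/-- The parameters of the highest root group in the overgroup. -/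
def topSet : AddSubgroup K where
  carrier := {t | C.g.xG (top D) t ∈ C.H}
  zero_mem' := by show C.g.xG (top D) 0 ∈ C.H; rw [C.g.xG_zero]; exact one_mem _
  add_mem' := fun {a b} ha hb => by
    show C.g.xG (top D) (a + b) ∈ C.H
    rw [← C.g.xG_add]
    exact mul_mem ha hb
  neg_mem' := fun {a} ha => by
    show C.g.xG (top D) (-a) ∈ C.H
    rw [← C.g.xG_inv]
    exact inv_mem ha

lemma mem_topSet {t : K} : t ∈ C.topSet ↔ C.g.xG (top D) t ∈ C.H := Iff.rfl

lemma topSet_of_fixed {t : K} (ht : C.E.σ t = t) : t ∈ C.topSet :=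
  C.M_le_H (C.xG_mem_M (top_lt C.g) ht)

/-- All long roots have the same parameters. -/
lemma mem_long_iff {a : Fin D.nroots} (ha : C.long a = true) (t : K) :
    C.g.xG a t ∈ C.H ↔ t ∈ C.topSet := by
  obtain ⟨l, hl⟩ := exists_word_top C.g C.T ha
  obtain ⟨e, he2, he, -⟩ := C.g.wordN_conj_xG_pair (F := K) l a
  rw [hl] at he
  have hw := C.M_le_H (C.wordN_mem_M l)
  have h1 : e * t ∈ C.topSet ↔ t ∈ C.topSet := by
    rcases mul_self_eq_one_iff.1 he2 with h | h
    · rw [h, one_mul]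
    · rw [h, neg_one_mul, neg_mem_iff]
  rw [← h1, mem_topSet, ← he t, Subgroup.mul_mem_cancel_right _ (inv_mem hw), Subgroup.mul_mem_cancel_left _ hw]

/-- A pencil of long roots makes the parameters closed under multiplication. -/
lemma topSet_mul_of_pencil {γ α : ℕ} (hγ : γ < D.nroots) (hα : α < D.nroots) (hγl : C.long γ = true)
    (hαl : C.long α = true) (h1 : α ≠ γ) (h2 : α ≠ fneg D γ) {c : ℤ} (hc : c = 1 ∨ c = -1)
    (hT : fterms D γ α = [(top D, c, 1, 1)]) :
    ∀ a ∈ C.topSet, ∀ b ∈ C.topSet, a * b ∈ C.topSet := by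
  intro a ha b hb
  have ha' := (C.mem_long_iff (a := ⟨γ, hγ⟩) hγl a).2 ha
  have hb' := (C.mem_long_iff (a := ⟨α, hα⟩) hαl b).2 hb
  have h := mul_mem (inv_mem hb') (mul_mem (mul_mem ha' hb') (inv_mem ha'))
  rw [C.conj_terms hγ hα h1 h2 hT, inv_mul_cancel_left] at h
  simp only [List.map_cons, List.map_nil, List.prod_cons, List.prod_nil, mul_one, pow_one] at h
  rw [← mem_topSet] at h
  rcases hc with rfl | rfl
  · simpa using h
  · simpa using h

/-- All root groups have the parameters of the highest one. -/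
theorem root_mem_of_topSet (hmul : ∀ a ∈ C.topSet, ∀ b ∈ C.topSet, a * b ∈ C.topSet)
    (hshort : ∀ i < D.rank, C.long (D.simple i) = true ∨ ∃ β, β < D.nroots ∧ C.long β = true ∧
      C.long (fneg D β) = true ∧ (fpair D β (D.simple i) = 1 ∨ fpair D β (D.simple i) = -1))
    {r : ℕ} (hr : r < D.nroots) {t : K} (ht : t ∈ C.topSet) : C.g.xG r t ∈ C.H := by
  obtain ⟨d, -, -, hd⟩ := C.E.exists_deg_of_closed C.topSet (fun s hs => C.topSet_of_fixed hs) hmul
  obtain ⟨l, i, hli, -⟩ := C.g.exists_word_simple hr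
  obtain ⟨e, he2, he, -⟩ := C.g.wordN_conj_xG_pair (F := K) l ⟨D.simple i, C.g.simple_lt i.2⟩
  rw [hli] at he
  have hw := C.M_le_H (C.wordN_mem_M l)
  suffices ∀ s ∈ C.topSet, C.g.xG (D.simple i) s ∈ C.H by
    have het : e * t ∈ C.topSet := by
      rcases mul_self_eq_one_iff.1 he2 with h | h
      · rwa [h, one_mul]
      · rw [h, neg_one_mul]; exact neg_mem ht
    have h := he (e * t)
    rw [← mul_assoc, he2, one_mul] at h
    rw [← h]
    exact mul_mem (mul_mem hw (this _ het)) (inv_mem hw)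
  intro s hs'
  rcases hshort i i.2 with h | ⟨β, hβ, hβl, hβn, hpair⟩
  · exact (C.mem_long_iff (a := ⟨D.simple i, C.g.simple_lt i.2⟩) h s).2 hs'
  have hneg : fneg D β = D.neg β := (neg_eq C.g.lie.pack hβ).symm
  rw [hneg] at hβn
  rcases eq_or_ne s 0 with rfl | hs
  · rw [C.g.xG_zero]; exact one_mem _
  have hh : ∀ u : Kˣ, (u : K) ∈ C.topSet → C.g.hG β u ∈ C.H := fun u hu => by
    have hinv : (((u⁻¹ : Kˣ) : K)) ∈ C.topSet := by
      rw [Units.val_inv_eq_inv_val]
      refine (hd _).2 ?_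
      rw [inv_pow, (hd _).1 hu]
    have hn : ∀ v : Kˣ, (v : K) ∈ C.topSet → ((v⁻¹ : Kˣ) : K) ∈ C.topSet → C.g.nG β v ∈ C.H :=
      fun v hv hv' => mul_mem (mul_mem ((C.mem_long_iff (a := ⟨β, hβ⟩) hβl _).2 hv)
        ((C.mem_long_iff (a := ⟨D.neg β, C.g.neg_lt hβ⟩) hβn _).2 (neg_mem hv')))
        ((C.mem_long_iff (a := ⟨β, hβ⟩) hβl _).2 hv)
    rw [C.g.hG_eq hβ]
    exact mul_mem (hn u hu hinv) (hn _ (C.topSet_of_fixed (by simp)) (C.topSet_of_fixed (by simp)))
  have hone : C.g.xG (D.simple i) (1 : K) ∈ C.H :=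
    C.M_le_H (C.xG_mem_M (C.g.simple_lt i.2) (map_one _))
  rw [C.g.fpair_eq β (C.g.simple_lt i.2)] at hpair
  rcases hpair with hp | hp
  · have hm := hh (Units.mk0 s hs) hs'
    have h := mul_mem (mul_mem hm hone) (inv_mem hm)
    rw [C.g.hG_conj_xG (C.g.simple_lt i.2), hp] at h
    simpa using h
  · have hm := hh (Units.mk0 s hs)⁻¹ (by
      rw [Units.val_inv_eq_inv_val]
      exact (hd _).2 (by rw [inv_pow]; exact congrArg _ ((hd s).1 hs')))
    have h := mul_mem (mul_mem hm hone) (inv_mem hm)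
    rw [C.g.hG_conj_xG (C.g.simple_lt i.2), hp] at h
    simpa using h

lemma hG_mem_H {r : ℕ} (hr : r < D.nroots) (u : Kˣ) (hu : C.E.σ (u : K) = (u : K)) : C.g.hG r u ∈ C.H := by
  have hn : ∀ v : Kˣ, C.E.σ (v : K) = (v : K) → C.g.nG r v ∈ C.H := fun v hv => by
    refine mul_mem (mul_mem ?_ ?_) ?_
    · exact C.M_le_H (C.xG_mem_M hr hv)
    · refine C.M_le_H (C.xG_mem_M (C.g.neg_lt hr) ?_)
      rw [map_neg, Units.val_inv_eq_inv_val, map_inv₀, hv]
    · exact C.M_le_H (C.xG_mem_M hr hv)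
  rw [C.g.hG_eq hr]
  exact mul_mem (hn _ hu) (hn _ (by simp))

end Ctx

/-! ### B2 -/

section B2

variable (C : Ctx chevB2 K) (hlong : C.long = longOf shortB2)
include hlong

lemma b2_long_mem {a : ℕ} (ha : a < 8) (hal : longOf shortB2 a = true) (t : K) :
    C.g.xG a t ∈ C.H ↔ t ∈ C.topSet :=
  C.mem_long_iff (a := ⟨a, ha⟩) (hlong ▸ hal) t

lemma b2_short6 {a : K} (ha : a ∈ C.topSet) : C.g.xG 6 a ∈ C.H := by
  have h4 := (b2_long_mem C hlong (a := 4) (by decide) (by decide +kernel) a).2 ha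
  have h7 := (b2_long_mem C hlong (a := 7) (by decide) (by decide +kernel) a).2 ha
  have h5 : C.g.xG 5 (1 : K) ∈ C.H := C.M_le_H (C.xG_mem_M (r := 5) (by decide) (map_one _))
  have h := mul_mem (inv_mem h4) (mul_mem (mul_mem h5 h4) (inv_mem h5))
  rw [C.conj_terms (by decide) (by decide) (by decide) (by decide)
    (L := [(6, -1, 1, 1), (7, -1, 2, 1)]) (by decide +kernel), inv_mul_cancel_left] at h
  simp only [List.map_cons, List.map_nil, List.prod_cons, List.prod_nil, mul_one, pow_one, one_pow,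
    Int.cast_neg, Int.cast_one, neg_one_mul] at h
  have h' := mul_mem h h7
  rw [mul_assoc, C.g.xG_add, neg_add_cancel, C.g.xG_zero, mul_one, ← C.g.xG_inv] at h'
  exact inv_mem_iff.1 h'

lemma b2_short5 {a : K} (ha : C.g.xG 6 a ∈ C.H) : C.g.xG 5 a ∈ C.H := by
  obtain ⟨e, he2, he, -⟩ := C.g.wordN_conj_xG_pair (F := K) [⟨1, by decide⟩] ⟨6, by decide⟩
  have hp : (C.g.wperm [⟨1, by decide⟩] ⟨6, by decide⟩ : ℕ) = 5 := by
    rw [C.g.wperm_cons, C.g.wperm_nil, mul_one, C.g.rperm_val,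
      (StructChecks.refl_facts checksB2 structChecksB2 (by decide : (1:ℕ) < chevB2.rank)
        (by decide : (6:ℕ) < chevB2.nroots)).1]
    decide +kernel
  simp only [hp] at he
  have hw := C.M_le_H (C.wordN_mem_M [⟨1, by decide⟩])
  rcases mul_self_eq_one_iff.1 he2 with h | h
  · have := mul_mem (mul_mem hw ha) (inv_mem hw)
    rwa [he, h, one_mul] at this
  · have := mul_mem (mul_mem hw ha) (inv_mem hw)
    rw [he, h, neg_one_mul, ← C.g.xG_inv] at this
    exact inv_mem_iff.1 this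

lemma b2_mul_odd (h2 : (2 : K) ≠ 0) : ∀ a ∈ C.topSet, ∀ b ∈ C.topSet, a * b ∈ C.topSet := by
  classical
  intro a ha b hb
  have h5 := b2_short5 C hlong (b2_short6 C hlong ha)
  have h6 := b2_short6 C hlong hb
  have h := mul_mem (inv_mem h6) (mul_mem (mul_mem h5 h6) (inv_mem h5))
  rw [C.conj_terms (by decide) (by decide) (by decide) (by decide)
    (L := [(7, 2, 1, 1)]) (by decide +kernel), inv_mul_cancel_left] at h
  simp only [List.map_cons, List.map_nil, List.prod_cons, List.prod_nil, mul_one, pow_one,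
    Int.cast_ofNat] at h
  let f : C.topSet → C.topSet := fun t => ⟨(2 : K) * (t : K), by rw [two_mul]; exact add_mem t.2 t.2⟩
  have hf : Function.Injective f := fun x y hxy => Subtype.ext (mul_left_cancel₀ h2 (congrArg Subtype.val hxy))
  obtain ⟨c, hc⟩ := (Finite.injective_iff_surjective.1 hf) ⟨2 * a * b, h⟩
  have hc' : (2 : K) * (c : K) = 2 * a * b := congrArg Subtype.val hc
  rw [mul_assoc] at hc'
  rw [← mul_left_cancel₀ h2 hc']
  exact c.2

lemma b2_two_mul [CharP K 2] : ∀ a ∈ C.topSet, ∀ b ∈ C.topSet, a * b ∈ C.topSet := by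
  classical
  have c54 : ∀ u t : K, C.g.xG 5 u * C.g.xG 4 t * (C.g.xG 5 u)⁻¹ =
      C.g.xG 4 t * (C.g.xG 6 (u * t) * C.g.xG 7 (u ^ 2 * t)) := fun u t => by
    rw [C.conj_terms (by decide) (by decide) (by decide) (by decide)
      (L := [(6, -1, 1, 1), (7, -1, 2, 1)]) (by decide +kernel)]
    simp [CharTwo.neg_eq]
  have c36 : ∀ t : K, C.g.xG 3 1 * C.g.xG 6 t * (C.g.xG 3 1)⁻¹ =
      C.g.xG 6 t * (C.g.xG 5 t * C.g.xG 7 (t ^ 2)) := fun t => by
    rw [C.conj_terms (by decide) (by decide) (by decide) (by decide)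
      (L := [(5, 1, 1, 1), (7, 1, 1, 2)]) (by decide +kernel)]
    simp
  have k37 : ∀ t : K, Commute (C.g.xG 3 1) (C.g.xG 7 t) := fun t =>
    commute_of_nil C.g C.hc (by decide) (by decide) (by decide) (by rw [neg_eq C.g.lie.pack (by decide)]; decide)
      (by rw [terms_b2 3 7 (by decide) (by decide)]; decide +kernel) t 1
  have k57 : ∀ s t : K, Commute (C.g.xG 5 s) (C.g.xG 7 t) := fun s t =>
    commute_of_nil C.g C.hc (by decide) (by decide) (by decide) (by rw [neg_eq C.g.lie.pack (by decide)]; decide)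
      (by rw [terms_b2 5 7 (by decide) (by decide)]; decide +kernel) t s
  have hy : ∀ a ∈ C.topSet, ∀ b ∈ C.topSet, C.g.xG 6 (b * a) * C.g.xG 7 (b ^ 2 * a) ∈ C.H := by
    intro a ha b hb
    have h4 := (b2_long_mem C hlong (a := 4) (by decide) (by decide +kernel) a).2 ha
    have h5 := b2_short5 C hlong (b2_short6 C hlong hb)
    have h := mul_mem (inv_mem h4) (mul_mem (mul_mem h5 h4) (inv_mem h5))
    rwa [c54, inv_mul_cancel_left] at h
  have hz : ∀ u v : K, C.g.xG 6 u * C.g.xG 7 v ∈ C.H → C.g.xG 5 u * C.g.xG 7 (u ^ 2) ∈ C.H := by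
    intro u v h
    have h1 := C.conj_mem_H (δ := 3) (by decide) h
    rw [show C.g.xG 3 1 * (C.g.xG 6 u * C.g.xG 7 v) * (C.g.xG 3 1)⁻¹ =
      (C.g.xG 3 1 * C.g.xG 6 u * (C.g.xG 3 1)⁻¹) * (C.g.xG 3 1 * C.g.xG 7 v * (C.g.xG 3 1)⁻¹) by group, c36,
      (k37 v).eq, mul_inv_cancel_right] at h1
    rw [show (C.g.xG 6 u * C.g.xG 7 v)⁻¹ *
      (C.g.xG 6 u * (C.g.xG 5 u * C.g.xG 7 (u ^ 2)) * C.g.xG 7 v) =
      (C.g.xG 7 v)⁻¹ * ((C.g.xG 5 u * C.g.xG 7 (u ^ 2)) * C.g.xG 7 v) by group,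
      ((k57 _ _).mul_left (xG_commute_self C.g 7 _ _)).eq, inv_mul_cancel_left] at h1
    exact h1
  obtain ⟨e5, he5, hm5, -⟩ := C.g.wordN_conj_xG_pair (F := K) [⟨1, by decide⟩] ⟨5, by decide⟩
  obtain ⟨e7, he7, hm7, -⟩ := C.g.wordN_conj_xG_pair (F := K) [⟨1, by decide⟩] ⟨7, by decide⟩
  have hp5 : (C.g.wperm [⟨1, by decide⟩] ⟨5, by decide⟩ : ℕ) = 6 := by
    rw [C.g.wperm_cons, C.g.wperm_nil, mul_one, C.g.rperm_val,
      (StructChecks.refl_facts checksB2 structChecksB2 (by decide : (1:ℕ) < chevB2.rank)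
        (by decide : (5:ℕ) < chevB2.nroots)).1]
    decide +kernel
  have hp7 : (C.g.wperm [⟨1, by decide⟩] ⟨7, by decide⟩ : ℕ) = 7 := by
    rw [C.g.wperm_cons, C.g.wperm_nil, mul_one, C.g.rperm_val,
      (StructChecks.refl_facts checksB2 structChecksB2 (by decide : (1:ℕ) < chevB2.rank)
        (by decide : (7:ℕ) < chevB2.nroots)).1]
    decide +kernel
  simp only [hp5] at hm5
  simp only [hp7] at hm7
  have hone : ∀ e : K, e * e = 1 → e = 1 := fun e h => by
    rcases mul_self_eq_one_iff.1 h with h | h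
    · exact h
    · rw [h, CharTwo.neg_eq]
  rw [hone _ he5] at hm5
  rw [hone _ he7] at hm7
  have hzz : ∀ u v : K, C.g.xG 6 u * C.g.xG 7 v ∈ C.H → v + u ^ 2 ∈ C.topSet := by
    intro u v h
    have hw := C.M_le_H (C.wordN_mem_M [⟨1, by decide⟩])
    have h1 := mul_mem (mul_mem hw (hz u v h)) (inv_mem hw)
    rw [show C.g.wordN [⟨1, by decide⟩] * (C.g.xG 5 u * C.g.xG 7 (u ^ 2)) * (C.g.wordN [⟨1, by decide⟩])⁻¹ =
      (C.g.wordN [⟨1, by decide⟩] * C.g.xG 5 u * (C.g.wordN [⟨1, by decide⟩])⁻¹) *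
        (C.g.wordN [⟨1, by decide⟩] * C.g.xG 7 (u ^ 2) * (C.g.wordN [⟨1, by decide⟩])⁻¹) by group,
      hm5, hm7, one_mul, one_mul] at h1
    have h2 := mul_mem (inv_mem h1) h
    rw [show (C.g.xG 6 u * C.g.xG 7 (u ^ 2))⁻¹ * (C.g.xG 6 u * C.g.xG 7 v) =
      (C.g.xG 7 (u ^ 2))⁻¹ * C.g.xG 7 v by group, C.g.xG_inv, C.g.xG_add, CharTwo.neg_eq, add_comm] at h2
    exact h2
  have hsq : ∀ b ∈ C.topSet, b ^ 2 ∈ C.topSet := by
    intro b hb
    have h := mul_mem (inv_mem (b2_short6 C hlong hb)) (hy 1 (C.topSet_of_fixed (map_one _)) b hb)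
    rw [mul_one, mul_one, inv_mul_cancel_left] at h
    exact h
  have hL : ∀ a ∈ C.topSet, ∀ c ∈ C.topSet, (a + a ^ 2) * c ∈ C.topSet := by
    intro a ha c hc
    let f : C.topSet → C.topSet := fun t => ⟨(t : K) ^ 2, hsq _ t.2⟩
    have hf : Function.Injective f := fun x y hxy =>
      Subtype.ext (frobenius_inj K 2 (congrArg Subtype.val hxy))
    obtain ⟨b, hb⟩ := (Finite.injective_iff_surjective.1 hf) ⟨c, hc⟩
    have hb' : (b : K) ^ 2 = c := congrArg Subtype.val hb
    have := hzz _ _ (hy a ha b b.2)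
    rw [← hb']
    convert this using 1
    ring
  have hrat : ∀ f t : K, C.E.σ f = f → t ∈ C.topSet → f * t ∈ C.topSet := by
    intro f t hf ht
    rcases eq_or_ne f 0 with rfl | hf0
    · rw [zero_mul]; exact zero_mem _
    obtain ⟨s, hs⟩ := (Finite.injective_iff_surjective.1 (frobenius_inj K 2)) f
    rw [frobenius_def] at hs
    have hs0 : s ≠ 0 := fun h => hf0 (by rw [← hs, h]; simp)
    have hsσ : C.E.σ s = s := frobenius_inj K 2 (by
      rw [frobenius_def, frobenius_def, ← map_pow, hs, hf])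
    have hh := C.hG_mem_H (r := 5) (by decide) (Units.mk0 s hs0) hsσ
    have h7 := (b2_long_mem C hlong (a := 7) (by decide) (by decide +kernel) t).2 ht
    have h := mul_mem (mul_mem hh h7) (inv_mem hh)
    rw [C.g.hG_conj_xG (by decide), show pair chevB2 5 7 = 2 by
      rw [← C.g.fpair_eq 5 (show 7 < chevB2.nroots by decide)]; decide +kernel] at h
    have h' := (b2_long_mem C hlong (a := 7) (by decide) (by decide +kernel) _).1 h
    simp only [zpow_ofNat, Units.val_pow_eq_pow_val, Units.val_mk0] at h'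
    rwa [hs] at h'
  have h2K : (2 : K) = 0 := CharTwo.two_eq_zero
  let R : AddSubgroup K :=
    { carrier := {t | ∀ c ∈ C.topSet, t * c ∈ C.topSet}
      zero_mem' := fun c _ => by rw [zero_mul]; exact zero_mem _
      add_mem' := fun {s t} hs ht c hc => by rw [add_mul]; exact add_mem (hs c hc) (ht c hc)
      neg_mem' := fun {s} hs c hc => by rw [neg_mul]; exact neg_mem (hs c hc) }
  obtain ⟨d, -, -, hd⟩ := C.E.exists_deg_of_closed R (fun t ht c hc => hrat t c ht hc)
    (fun s hs t ht c hc => by rw [mul_assoc]; exact hs _ (ht c hc))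
  -- a nontrivial multiplier makes the parameter a multiplier
  have main : ∀ a ∈ C.topSet, a + a ^ 2 ≠ 0 → a + a ^ 2 ≠ 1 → ∀ b ∈ C.topSet, a * b ∈ C.topSet := by
    intro a ha ha0 ha1 b hb
    obtain ⟨r, hr⟩ : ∃ r, r = a + a ^ 2 := ⟨_, rfl⟩
    have hra : r * a ∈ C.topSet := hr ▸ hL a ha a ha
    have hRr : r ∈ R := fun c hc => hr ▸ hL a ha c hc
    have hRr' : r * (r + 1) ∈ R := fun c hc => by
      rw [mul_assoc, add_mul, one_mul]
      exact hRr _ (add_mem (hRr c hc) hc)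
    have key : r * (r + 1) * (a * b) ∈ C.topSet := by
      have h3 := add_mem (hL _ hra b hb) (hRr _ (hRr _ (hRr b hb)))
      convert h3 using 1
      rw [hr]
      linear_combination (-((a + a ^ 2) ^ 2 * b * (a + a ^ 2 - a - a ^ 2 + a ^ 2))) * h2K
    have hne : r * (r + 1) ≠ 0 := mul_ne_zero (hr ▸ ha0) fun h =>
      ha1 (hr ▸ CharTwo.add_eq_zero.1 h)
    have hinv : (r * (r + 1))⁻¹ ∈ R := (hd _).2 (by rw [inv_pow, (hd _).1 hRr'])
    have h := hinv _ key
    rwa [← mul_assoc, inv_mul_cancel₀ hne, one_mul] at h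
  intro a ha b hb
  by_cases ha0 : a + a ^ 2 = 0
  · have : a * (a + 1) = 0 := by linear_combination ha0
    rcases mul_eq_zero.1 this with h | h
    · rw [h, zero_mul]; exact zero_mem _
    · rw [CharTwo.add_eq_zero.1 h, one_mul]; exact hb
  by_cases hb0 : b + b ^ 2 = 0
  · have : b * (b + 1) = 0 := by linear_combination hb0
    rcases mul_eq_zero.1 this with h | h
    · rw [h, mul_zero]; exact zero_mem _
    · rw [CharTwo.add_eq_zero.1 h, mul_one]; exact ha
  by_cases ha1 : a + a ^ 2 = 1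
  swap
  · exact main a ha ha0 ha1 b hb
  by_cases hb1 : b + b ^ 2 = 1
  swap
  · rw [mul_comm]; exact main b hb hb0 hb1 a ha
  have : (a + b) * (a + b + 1) = 0 := by linear_combination ha1 + hb1 + (a * b + 1) * h2K
  rcases mul_eq_zero.1 this with h | h
  · rw [← CharTwo.add_eq_zero.1 h, ← pow_two]; exact hsq a ha
  · have hb' : b = a + 1 := by linear_combination h - (a + 1) * h2K
    rw [hb', show a * (a + 1) = 1 by linear_combination ha1]
    exact C.topSet_of_fixed (map_one _)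

end B2

end CfsgLib.Chev.SubFin
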