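import Cfsg.Agent.Lib.Chev.SubFin.Odd
import Cfsg.Agent.Lib.Chev.TwistFGTorus

/-!
Torus elements over the subfield times central elements of the radical.
-/

set_option autoImplicit false
set_option linter.unusedSectionVars false
set_option maxRecDepth 100000

namespace CfsgLib.Chev.SubFin

open Cfsg.Lie Matrix CfsgLib.Chev SubMax

variable {D : ChevalleyDatum} {K : Type*} [Field K] [Fintype K]

namespace Ctx

variable (C : Ctx D K)

/-- A torus element over the subfield moves root elements by scalars over the subfield. -/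
lemma diag_scalar {d : GL D.Idx K} (hd : d ∈ D.diagonalSubgroup K) (hdσ : C.sG d = d) (r : Fin D.nroots) :
    ∃ e : K, e ≠ 0 ∧ C.E.σ e = e ∧ ∀ t : K, d * C.g.xG r t * d⁻¹ = C.g.xG r (e * t) := by
  obtain ⟨e, he⟩ := C.g.acts_diagonal hd r
  have he' : ∀ t : K, d * C.g.xG r t * d⁻¹ = C.g.xG r ((e : K) * t) := fun t => he t
  refine ⟨e, e.ne_zero, ?_, he'⟩
  have h := congrArg C.sG (he' 1)
  rw [map_mul, map_mul, map_inv, hdσ, C.sG_xG r.2, C.sG_xG r.2, map_one, he'] at h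
  simpa using (xG_inj C.g r.2 h).symm

/-- Central elements of the radical supported at the highest root alone. -/
lemma xProd_top {f : ℕ → K} (hf : ∀ r, r ≠ top D → f r = 0) :
    C.g.xProd f (half D) = C.g.xG (top D) (f (top D)) := by
  have hn := C.g.nroots_eq
  have hl : (List.range' (half D) (D.nroots - half D)).filter (fun r => decide (r ∈ [top D])) = [top D] := by
    rw [show D.nroots - half D = (D.nroots - half D - 1) + 1 by omega, List.range'_1_concat, List.filter_append,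
      List.filter_eq_nil_iff.2 fun r hr => by
        rw [List.mem_range'_1] at hr
        simp only [List.mem_singleton, decide_eq_true_eq, top]
        omega]
    have : half D + (D.nroots - half D - 1) = top D := by unfold top; omega
    simp [this]
  rw [xProd_eq_list C.g hl (fun r hr => hf r (by simpa using hr))]
  simp

lemma supp_top (hgood : ∀ r ∈ radSet D, r ≠ top D → ∃ a ∈ radSet D, (nRad C.g r a : K) ≠ 0) {f : ℕ → K}
    (hf : ∀ r, f r ≠ 0 → r ∈ radSet D ∧ ∀ a ∈ radSet D, (nRad C.g r a : K) = 0) :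
    ∀ r, r ≠ top D → f r = 0 := fun r hr => by
  by_contra h0
  obtain ⟨a, ha, hne⟩ := hgood r (hf r h0).1 hr
  exact hne ((hf r h0).2 a ha)

/-- With a pencil of long roots. -/
theorem stab_of_pencil (hT : C.TopRat)
    (hgood : ∀ r ∈ radSet D, r ≠ top D → ∃ a ∈ radSet D, (nRad C.g r a : K) ≠ 0) {γ α : ℕ}
    (hγ : γ < D.nroots) (hα : α < D.nroots) (hok : pencilOK D C.long γ α = true) (hαl : C.long α = true) :
    C.StabRat := by
  intro d hd hdσ f hf hH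
  rw [C.xProd_top (C.supp_top hgood hf)] at hH ⊢
  obtain ⟨e, he⟩ : ∃ e, e = f (top D) := ⟨_, rfl⟩
  rw [← he] at hH ⊢
  rw [C.sG_xG (top_lt C.g)]
  congr 1
  simp only [pencilOK, Bool.and_eq_true, decide_eq_true_eq, List.isEmpty_iff] at hok
  obtain ⟨⟨⟨⟨⟨⟨⟨⟨⟨⟨⟨⟨⟨⟨⟨⟨⟨-, k2⟩, -⟩, -⟩, -⟩, k6⟩, k7⟩, k8⟩, k9⟩, -⟩, -⟩, -⟩, -⟩, k14⟩, -⟩, k16⟩, -⟩, -⟩ := hok
  have hT' := top_lt C.g
  have hαQ := (radB_iff C.g hα).1 k2
  obtain ⟨δ, hδ⟩ : ∃ δ, δ = fneg D γ := ⟨_, rfl⟩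
  rw [← hδ] at k6 k7 k8 k9 k14 k16
  have hδ' : δ < D.nroots := by rw [hδ, ← neg_eq C.g.lie.pack hγ]; exact C.g.neg_lt hγ
  have hdT : ∀ t : K, C.g.xG δ 1 * C.g.xG (top D) t * (C.g.xG δ 1)⁻¹ =
      C.g.xG (top D) t * C.g.xG α t := fun t => by
    rw [C.conj_terms hδ' hT' k6 k7 k14]
    simp
  have hx1 : C.g.xG δ (1 : K) ∈ C.H := C.M_le_H (C.xG_mem_M hδ' (map_one _))
  obtain ⟨eδ, -, heδ, hcδ⟩ := C.diag_scalar hd hdσ ⟨δ, hδ'⟩
  obtain ⟨eα, heα0, heα, hcα⟩ := C.diag_scalar hd hdσ ⟨α, hα⟩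
  have h1 : d * C.g.xG (top D) e * C.g.xG δ 1 * (d * C.g.xG (top D) e)⁻¹ ∈ C.H :=
    mul_mem (mul_mem hH hx1) (inv_mem hH)
  have h2 : C.g.xG (top D) e * C.g.xG δ 1 * (C.g.xG (top D) e)⁻¹ = C.g.xG α (-e) * C.g.xG δ 1 := by
    have h3 : C.g.xG δ 1 * C.g.xG (top D) (-e) = C.g.xG (top D) (-e) * C.g.xG α (-e) * C.g.xG δ 1 := by
      rw [← hdT, inv_mul_cancel_right]
    rw [C.g.xG_inv, mul_assoc, h3, ← mul_assoc, ← mul_assoc, C.g.xG_add, add_neg_cancel, C.g.xG_zero, one_mul]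
  rw [show d * C.g.xG (top D) e * C.g.xG δ 1 * (d * C.g.xG (top D) e)⁻¹ =
    d * (C.g.xG (top D) e * C.g.xG δ 1 * (C.g.xG (top D) e)⁻¹) * d⁻¹ by group, h2,
    show d * (C.g.xG α (-e) * C.g.xG δ 1) * d⁻¹ = (d * C.g.xG α (-e) * d⁻¹) * (d * C.g.xG δ 1 * d⁻¹) by group,
    hcα, hcδ] at h1
  have h4 : C.g.xG δ (eδ * 1) ∈ C.H := C.M_le_H (C.xG_mem_M hδ' (by rw [mul_one, heδ]))
  have h5 := C.long_rat hT (a := ⟨α, hα⟩) hαl ((Subgroup.mul_mem_cancel_right _ h4).1 h1)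
  have h6 : C.E.σ (-e) = -e := C.fixed_of_mul heα0 heα h5
  rwa [map_neg, neg_inj] at h6

/-- B2 in odd characteristic. -/
theorem stab_B2_odd (C : Ctx chevB2 K) (hlong : C.long = longOf shortB2) (h2 : (2 : K) ≠ 0) (hT : C.TopRat)
    (hgood : ∀ r ∈ radSet chevB2, r ≠ top chevB2 → ∃ a ∈ radSet chevB2, (nRad C.g r a : K) ≠ 0) :
    C.StabRat := by
  intro d hd hdσ f hf hH
  rw [C.xProd_top (C.supp_top hgood hf)] at hH ⊢
  obtain ⟨e, he⟩ : ∃ e, e = f (top chevB2) := ⟨_, rfl⟩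
  rw [← he] at hH ⊢
  rw [C.sG_xG (top_lt C.g)]
  congr 1
  have e7 : top chevB2 = 7 := by decide +kernel
  rw [e7] at hH
  have k27 : ∀ s t : K, C.g.xG 2 s * C.g.xG 7 t * (C.g.xG 2 s)⁻¹ =
      C.g.xG 7 t * (C.g.xG 6 (s * t) * C.g.xG 4 (-(s ^ 2 * t))) := fun s t => by
    rw [C.conj_terms (by decide) (by decide) (by decide) (by decide)
      (L := [(6, 1, 1, 1), (4, -1, 2, 1)]) (by decide +kernel)]
    simp
  have k46 : ∀ u t : K, Commute (C.g.xG 4 u) (C.g.xG 6 t) := fun u t =>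
    commute_of_nil C.g C.hc (by decide) (by decide) (by decide) (by rw [neg_eq C.g.lie.pack (by decide)]; decide)
      (by rw [terms_b2 4 6 (by decide) (by decide)]; decide +kernel) t u
  obtain ⟨e2, -, he2, hc2⟩ := C.diag_scalar hd hdσ ⟨2, by decide⟩
  obtain ⟨e4, he40, he4, hc4⟩ := C.diag_scalar hd hdσ ⟨4, by decide⟩
  obtain ⟨e6, -, -, hc6⟩ := C.diag_scalar hd hdσ ⟨6, by decide⟩
  have key : ∀ s : K, s ^ 2 = 1 → C.E.σ s = s → C.g.xG 6 (e6 * (-(s * e))) * C.g.xG 4 (e4 * e) ∈ C.H := by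
    intro s hs hsσ
    have hx : C.g.xG 2 s ∈ C.H := C.M_le_H (C.xG_mem_M (r := 2) (by decide) hsσ)
    have h1 : d * C.g.xG 7 e * C.g.xG 2 s * (d * C.g.xG 7 e)⁻¹ ∈ C.H := mul_mem (mul_mem hH hx) (inv_mem hH)
    have h3 : C.g.xG 7 e * C.g.xG 2 s * (C.g.xG 7 e)⁻¹ = C.g.xG 6 (-(s * e)) * C.g.xG 4 e * C.g.xG 2 s := by
      have h4 : C.g.xG 2 s * C.g.xG 7 (-e) = C.g.xG 7 (-e) * (C.g.xG 6 (-(s * e)) * C.g.xG 4 e) * C.g.xG 2 s := by
        have h5 := k27 s (-e)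
        rw [hs, one_mul, _root_.neg_neg, mul_neg] at h5
        rw [← h5, inv_mul_cancel_right]
      rw [C.g.xG_inv, mul_assoc, h4, ← mul_assoc, ← mul_assoc, C.g.xG_add, add_neg_cancel, C.g.xG_zero, one_mul]
    rw [show d * C.g.xG 7 e * C.g.xG 2 s * (d * C.g.xG 7 e)⁻¹ =
      d * (C.g.xG 7 e * C.g.xG 2 s * (C.g.xG 7 e)⁻¹) * d⁻¹ by group, h3,
      show d * (C.g.xG 6 (-(s * e)) * C.g.xG 4 e * C.g.xG 2 s) * d⁻¹ = (d * C.g.xG 6 (-(s * e)) * d⁻¹) *
        (d * C.g.xG 4 e * d⁻¹) * (d * C.g.xG 2 s * d⁻¹) by group, hc6, hc4, hc2] at h1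
    exact (Subgroup.mul_mem_cancel_right _
      (C.M_le_H (C.xG_mem_M (r := 2) (by decide) (by rw [map_mul, he2, hsσ])))).1 h1
  have h1 := mul_mem (key 1 (one_pow 2) (map_one _)) (key (-1) (by ring) (by rw [map_neg, map_one]))
  rw [show C.g.xG 6 (e6 * -(1 * e)) * C.g.xG 4 (e4 * e) * (C.g.xG 6 (e6 * -(-1 * e)) * C.g.xG 4 (e4 * e)) =
    C.g.xG 6 (e6 * -(1 * e)) * (C.g.xG 4 (e4 * e) * C.g.xG 6 (e6 * -(-1 * e))) * C.g.xG 4 (e4 * e) by group,
    (k46 _ _).eq, ← mul_assoc, C.g.xG_add, mul_assoc, C.g.xG_add,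
    show e6 * -(1 * e) + e6 * -(-1 * e) = (0 : K) by ring, C.g.xG_zero, one_mul,
    show e4 * e + e4 * e = (2 * e4) * e by ring] at h1
  have h5 := C.long_rat hT (a := ⟨4, by decide⟩) (show C.long 4 = true by rw [hlong]; decide +kernel) h1
  exact C.fixed_of_mul (mul_ne_zero h2 he40) (by rw [map_mul, map_ofNat, he4]) h5

/-- A torus element over the subfield is in the subgroup, if the Cartan matrix is invertible up to `n`. -/
lemma diag_mem_M {B : Matrix (Fin D.rank) (Fin D.rank) ℤ} {n : ℕ}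
    (hB : cartanMat D * B = Matrix.diagonal fun _ => (n : ℤ)) (hn : ∀ u : Kˣ, u ^ n = 1 → u = 1)
    {d : GL D.Idx K} (hd : d ∈ D.diagonalSubgroup K) (hdσ : C.sG d = d) : d ∈ C.M := by
  rw [C.g.diagonal_eq_range] at hd
  obtain ⟨c, rfl⟩ := hd
  obtain ⟨c', hc'⟩ : ∃ c' : Fin D.rank → Kˣ, c' = fun i => Units.map (C.E.σ : K →* K) (c i) := ⟨_, rfl⟩
  have h1 : torHom D K c' = torHom D K c := by rw [hc', ← scalarGL_torHom]; exact hdσ
  have h2 : powMap (cartanMat D) (c' / c) = 1 := by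
    rw [← C.g.torHom_eq_one_iff, map_div, h1, div_self']
  have h3 : ∀ j, (c' / c) j ^ n = 1 := by
    intro j
    have h4 : powMap (Matrix.diagonal fun _ : Fin D.rank => (n : ℤ)) (c' / c) = 1 := by
      rw [← hB, powMap_mul, MonoidHom.comp_apply, h2, map_one]
    have h5 := congrFun h4 j
    rw [powMap_apply, Finset.prod_eq_single j (fun i _ h => by simp [Matrix.diagonal_apply_ne _ h]) (by simp),
      Matrix.diagonal_apply_eq, zpow_natCast] at h5
    exact h5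
  have hfix : ∀ j, C.E.σ (c j : K) = (c j : K) := fun j => by
    have h6 := div_eq_one.1 (hn _ (h3 j))
    rw [hc'] at h6
    exact congrArg Units.val h6
  rw [← Finset.univ_prod_mulSingle c]
  refine Subgroup.mem_comap.1 (Subgroup.prod_mem (C.M.comap (torHom D K)) fun i _ => ?_)
  rw [Subgroup.mem_comap, C.g.torHom_single]
  exact C.hG_mem_M (C.g.simple_lt i.2) (hfix i)

/-- When the torus over the subfield lies in the subgroup. -/
theorem stab_of_diag (hQ : C.QRat) (hd : ∀ d ∈ D.diagonalSubgroup K, C.sG d = d → d ∈ C.M) : C.StabRat := by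
  intro d hd' hdσ f hf hH
  have hx : C.g.xProd f (half D) ∈ C.H := by
    have := mul_mem (inv_mem (C.M_le_H (hd d hd' hdσ))) hH
    rwa [inv_mul_cancel_left] at this
  refine (hQ _ hx ?_).2
  rw [Good.xProd]
  refine Subgroup.list_prod_mem _ fun y hy => ?_
  obtain ⟨r, -, rfl⟩ := List.mem_map.1 hy
  by_cases h0 : f r = 0
  · rw [h0, C.g.xG_zero]; exact one_mem _
  · exact C.g.mem_rootGen (hf r h0).1.1 (hf r h0).1 _

end Ctx

/-- The adjugate of the Cartan matrix of B2. -/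
noncomputable def cartanAdjB2 : Matrix (Fin chevB2.rank) (Fin chevB2.rank) ℤ :=
  Matrix.adjugate (cartanMat chevB2)

theorem qRat_stab_B2 [CharP K 2] (C : Ctx chevB2 K) (hT : C.TopRat) : C.RadRat := by
  refine ⟨qRat_B2 C hT, C.stab_of_diag (qRat_B2 C hT) fun d hd hdσ =>
    C.diag_mem_M (B := cartanAdjB2) (n := 2) ?_ (fun u hu => Units.ext ?_) hd hdσ⟩
  · rw [cartanAdjB2, Matrix.mul_adjugate]
    ext i j
    simp only [Matrix.smul_apply, Matrix.one_apply, Matrix.diagonal_apply, smul_eq_mul]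
    have hdet : (cartanMat chevB2).det = 2 := by decide +kernel
    rw [hdet]
    split <;> simp
  · have h := congrArg Units.val hu
    rw [Units.val_pow_eq_pow_val, Units.val_one] at h
    exact frobenius_inj K 2 (by rw [frobenius_def, frobenius_def, Units.val_one, one_pow, h])

theorem qRat_stab_G2 [CharP K 3] (C : Ctx chevG2 K) (hT : C.TopRat) : C.RadRat :=
  ⟨qRat_G2 C hT, C.stab_of_diag (qRat_G2 C hT) fun _ hd hdσ =>
    C.diag_mem_M (B := cartanInvG2) (n := 1) (by rw [cartanG2_mul_inv, Nat.cast_one, Matrix.diagonal_one])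
      (fun u hu => by rwa [pow_one] at hu) hd hdσ⟩

theorem qRat_stab_F4 [CharP K 2] (C : Ctx chevF4 K) (hT : C.TopRat) : C.RadRat :=
  ⟨qRat_F4 C hT, C.stab_of_diag (qRat_F4 C hT) fun _ hd hdσ =>
    C.diag_mem_M (B := cartanInvF4) (n := 1) (by rw [cartanF4_mul_inv, Nat.cast_one, Matrix.diagonal_one])
      (fun u hu => by rwa [pow_one] at hu) hd hdσ⟩

end CfsgLib.Chev.SubFin
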