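import Cfsg.Agent.Lib.Chev.SubFin.Position
import Cfsg.Agent.Lib.Chev.SubMaxTwo
import Cfsg.Agent.Lib.Chev.BorelTits
import Cfsg.Agent.Lib.Invol.Strong
import Cfsg.Agent.Lib.PLocal.Sylow

/-!
In characteristic two the subfield group would be strongly embedded in a larger subgroup with rational radical,
which is impossible as the subfield group has an involution that is no long root element.
-/

set_option autoImplicit false
set_option linter.unusedSectionVars false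

namespace CfsgLib.Chev

open Cfsg.Lie Matrix SubMax

namespace SubFin

variable {D : ChevalleyDatum} {K : Type*} [Field K] [Fintype K]

namespace Ctx

variable (C : Ctx D K)

/-- The normalizer of a rational unipotent subgroup lies in a rational parabolic subgroup. -/
theorem exists_rational_parabolic (hrank : 0 < D.rank) (p : ℕ) [Fact p.Prime] [CharP K p]
    (V : Subgroup (GL D.Idx K)) (hV : V ≤ C.M) (hp : IsPGroup p V) (hne : V ≠ ⊥) :
    ∃ m ∈ C.M, ∃ J : Set ℕ, (∃ i, i < D.rank ∧ i ∉ J) ∧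
      ∀ z ∈ D.group K, z ∈ Subgroup.normalizer (V : Set (GL D.Idx K)) →
        m⁻¹ * z * m ∈ D.parabolicSubgroup K J := by
  have hVG : V ≤ D.group K := hV.trans C.M_le_group
  obtain ⟨x, hx, c, s, hs, hc1, hdom, hfit, hmax⟩ := C.g.exists_optimum C.hc p hrank V hVG hp hne
  have hfix : x⁻¹ * C.sG x ∈ C.g.geSub c := by
    refine fits_unique C.g C.hc hne hx hs hc1 hdom hfit hmax (mul_mem (inv_mem hx) (C.sG_mem_group hx)) ?_
    rw [show x * (x⁻¹ * C.sG x) = C.sG x by group]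
    intro v hv a b hab
    have hvfix : C.sG v = v := (hV hv).2
    have e : C.sG (x⁻¹ * v * x) = (C.sG x)⁻¹ * v * C.sG x := by
      rw [map_mul, map_mul, map_inv, hvfix]
    rw [← e] at hab
    refine hfit v hv a b fun h0 => hab ?_
    rw [Matrix.sub_apply, sub_eq_zero] at h0
    show ((((x⁻¹ * v * x : GL D.Idx K) : Matrix D.Idx D.Idx K).map C.E.σ) - 1) a b = 0
    rw [Matrix.sub_apply, Matrix.map_apply, h0, Matrix.one_apply, sub_eq_zero]
    split <;> simp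
  obtain ⟨m, hm, hmx⟩ := C.coset_rational hdom hx hfix
  refine ⟨m, hm, {q | ∀ h : q < D.rank, c ⟨q, h⟩ = 0}, ?_, fun z hz hzV => ?_⟩
  · by_contra h
    push Not at h
    have h0 : c = 0 := funext fun q => h q q.2 q.2
    rw [h0] at hc1
    simp [Good.nrm, Good.lam] at hc1
  obtain ⟨hmx1, hmx2⟩ := Subgroup.mem_inf.1 hmx
  have hy : x⁻¹ * z * x ∈ D.group K := mul_mem (mul_mem (inv_mem hx) hz) hx
  have hfy : C.g.Fits V (x * (x⁻¹ * z * x)) c s := fun v hv => by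
    rw [show (x * (x⁻¹ * z * x))⁻¹ * v * (x * (x⁻¹ * z * x)) = x⁻¹ * (z⁻¹ * v * z) * x by group]
    exact hfit _ ((Subgroup.mem_normalizer_iff''.1 hzV v).1 hv)
  have h1 := fits_unique C.g C.hc hne hx hs hc1 hdom hfit hmax hy hfy
  rw [← C.g.geSub_inf_group C.hc hdom, show m⁻¹ * z * m = m⁻¹ * x * (x⁻¹ * z * x) * (m⁻¹ * x)⁻¹ by group]
  exact Subgroup.mem_inf.2 ⟨mul_mem (mul_mem hmx1 h1) (inv_mem hmx1),
    mul_mem (mul_mem hmx2 hy) (inv_mem hmx2)⟩

/-- The overgroup is not larger in characteristic two. -/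
theorem le_M_of_two [CharP K 2] (hQ : C.RadRat) (hrank : 0 < D.rank)
    (hco : ∀ j < D.rank, 0 < C.g.co (top D) j) {j : GL D.Idx K} (hjM : j ∈ C.M) (hj1 : j ≠ 1)
    (hj2 : j * j = 1) (hjw : ¬C.IsTopConj j) : C.H = C.M := by
  by_contra hne
  haveI : Fact (Nat.Prime 2) := ⟨Nat.prime_two⟩
  obtain ⟨H, hH⟩ : ∃ H, H = C.H := ⟨_, rfl⟩
  have horder : ∀ (x : GL D.Idx K) (hx : x ∈ H), x ≠ 1 → x * x = 1 → orderOf (⟨x, hx⟩ : H) = 2 := by
    intro x hx hx1 hx2
    rw [Subgroup.orderOf_mk, orderOf_eq_prime_iff]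
    exact ⟨by rw [pow_two, hx2], hx1⟩
  have hxx : C.g.xG (top D) (1 : K) * C.g.xG (top D) 1 = 1 := by
    rw [C.g.xG_add, CharTwo.add_self_eq_zero, C.g.xG_zero]
  have hx1 : C.g.xG (top D) (1 : K) ≠ 1 := fun h => one_ne_zero (eq_zero_of_xG_eq_one C.g (top_lt C.g) h)
  have hjH : j ∈ H := hH ▸ C.M_le_H hjM
  have hxH : C.g.xG (top D) (1 : K) ∈ H := hH ▸ C.top_mem_H
  have hse : Cfsg.IsStronglyEmbedded (C.M.subgroupOf H) := by
    refine stronglyEmbedded_of_normalizers _ ?_ ?_ ?_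
    · rw [Ne, Subgroup.subgroupOf_eq_top, hH]
      exact fun h => hne (le_antisymm h C.M_le_H)
    · rw [even_iff_two_dvd, ← horder j hjH hj1 hj2]
      exact Subgroup.orderOf_dvd_natCard (s := C.M.subgroupOf H) (x := ⟨j, hjH⟩) hjM
    · intro V hV hV1 hVM z hz
      rw [Subgroup.mem_subgroupOf]
      obtain ⟨V', hV'⟩ : ∃ V', V' = V.map H.subtype := ⟨_, rfl⟩
      have hV'M : V' ≤ C.M := by
        rw [hV']
        rintro _ ⟨v, hv, rfl⟩
        exact hVM hv
      have hV'1 : V' ≠ ⊥ := by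
        rw [hV', Ne, Subgroup.map_eq_bot_iff_of_injective _ H.subtype_injective]
        exact hV1
      obtain ⟨m, hm, J, ⟨i, hi, hiJ⟩, hmax⟩ :=
        C.exists_rational_parabolic hrank 2 V' hV'M (hV' ▸ hV.map _) hV'1
      have hzV : (z : GL D.Idx K) ∈ Subgroup.normalizer (V' : Set (GL D.Idx K)) := by
        rw [hV']
        exact Subgroup.le_normalizer_map H.subtype ⟨z, hz, rfl⟩
      have hzH : (z : GL D.Idx K) ∈ C.H := hH ▸ z.2
      have hP := hmax z (C.hi hzH) hzV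
      have hwH : m⁻¹ * z * m ∈ C.H := mul_mem (mul_mem (inv_mem (C.M_le_H hm)) hzH) (C.M_le_H hm)
      have hxU : C.g.xG (top D) (1 : K) ∈ D.unipotentRadical K J := by
        refine Subgroup.subset_closure ⟨top D, 1, (C.g.isPosRoot_iff _).2 ⟨half_le_top C.g, top_lt C.g⟩,
          fun h => ?_, C.g.coe_xG _ _⟩
        obtain ⟨_, h'⟩ := (C.g.inRootSub_iff C.hse J _).1 h
        have h1 : C.g.co (top D) i = 0 := h' i hi hiJ
        have := hco i hi
        omega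
      have hy := (Subgroup.mem_normalizer_iff.1 (C.g.parabolic_le_normalizer_radical C.hc C.hse J hP) _).1 hxU
      have hyU : m⁻¹ * z * m * C.g.xG (top D) (1 : K) * (m⁻¹ * z * m)⁻¹ ∈ D.posUnipotent K := by
        refine (show D.unipotentRadical K J ≤ D.posUnipotent K from (Subgroup.closure_le _).2 ?_) hy
        rintro x ⟨r, t, hr, -, hx⟩
        rw [C.g.eq_xG hx]
        exact C.g.xG_mem_posUnipotent hr t
      have hyH := mul_mem (mul_mem hwH C.top_mem_H) (inv_mem hwH)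
      have hyM := C.mem_M_of_commute hQ C.top_mem_M (C.isTopConj_top one_ne_zero) hyH
        (pos_commute_top C.g C.hc C.T hyU 1)
      have hwM := C.mem_M_of_conj_mem hQ hwH one_ne_zero hyM
      have := mul_mem (mul_mem hm hwM) (inv_mem hm)
      rwa [show m * (m⁻¹ * z * m) * m⁻¹ = (z : GL D.Idx K) by group] at this
  obtain ⟨h, hh⟩ := isConj_iff.1 (CfsgLib.Invol.se_isConj hse (horder _ hxH hx1 hxx) (horder j hjH hj1 hj2))
  refine hjw ⟨h, C.hi (hH ▸ h.2), 1, one_ne_zero, ?_⟩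
  simpa using (congrArg Subtype.val hh).symm

/-- The leading root of a positive long root element in a conjugate. -/
lemma exists_pos_form {j : GL D.Idx K} (hj : j ∈ D.posUnipotent K) (hc : C.IsTopConj j) :
    ∃ v ∈ D.posUnipotent K, ∃ β, half D ≤ β ∧ β < D.nroots ∧ C.long β = true ∧ ∃ w : K, w ≠ 0 ∧
      j = v * C.g.xG β w * v⁻¹ := by
  obtain ⟨h, hh, s, hs, he⟩ := hc
  obtain ⟨b, hb, n, hn, π, hπw, hπ, u, hu, rfl⟩ := C.g.exists_canonical C.hc hh
  obtain ⟨v, hv, d, hd, rfl⟩ := C.g.mem_borel.1 hb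
  obtain ⟨e, he1⟩ := hπ ⟨top D, top_lt C.g⟩
  obtain ⟨e', he2⟩ := C.g.acts_diagonal hd (π ⟨top D, top_lt C.g⟩)
  simp only [Equiv.Perm.one_apply] at he2
  have hu1 : u * C.g.xG (top D) s * u⁻¹ = C.g.xG (top D) s := by
    rw [(pos_commute_top C.g C.hc C.T (C.g.minus_le_pos π hu) s).eq, mul_inv_cancel_right]
  have hform : j = v * C.g.xG (π ⟨top D, top_lt C.g⟩ : ℕ) ((e' : K) * ((e : K) * s)) * v⁻¹ := by
    rw [he, show v * d * n * u * C.g.xG (top D) s * (v * d * n * u)⁻¹ =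
      v * (d * (n * (u * C.g.xG (top D) s * u⁻¹) * n⁻¹) * d⁻¹) * v⁻¹ by group, hu1,
      show n * C.g.xG (top D) s * n⁻¹ = C.g.xG (π ⟨top D, top_lt C.g⟩) ((e : K) * s) from he1 s, he2]
  have hw : (e' : K) * ((e : K) * s) ≠ 0 := mul_ne_zero e'.ne_zero (mul_ne_zero e.ne_zero hs)
  have hlong : C.long (π ⟨top D, top_lt C.g⟩) = true := by
    obtain ⟨l, hl⟩ := C.g.exists_wperm hπw
    rw [← hl]
    exact long_wperm C.g C.T l (a := ⟨top D, top_lt C.g⟩) C.T.long_top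
  rcases Nat.lt_or_ge (π ⟨top D, top_lt C.g⟩ : ℕ) (half D) with hneg | hpos
  · exfalso
    have hU : C.g.xG (π ⟨top D, top_lt C.g⟩ : ℕ) ((e' : K) * ((e : K) * s)) ∈ D.posUnipotent K := by
      have := mul_mem (mul_mem (inv_mem hv) hj) hv
      rwa [hform, show v⁻¹ * (v * C.g.xG (π ⟨top D, top_lt C.g⟩ : ℕ) ((e' : K) * ((e : K) * s)) * v⁻¹) * v =
        C.g.xG (π ⟨top D, top_lt C.g⟩ : ℕ) ((e' : K) * ((e : K) * s)) by group] at this
    obtain ⟨c, hc'⟩ : ∃ c : Fin D.rank → ℝ, ∀ u : Fin D.nroots, C.g.lam c u = (C.g.wt u : ℝ) :=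
      ⟨fun q => ((16 ^ (D.rank - 1 - (q : ℕ)) : ℕ) : ℝ), fun u => by
        rw [C.g.wt_eq, Good.lam, ← Fin.sum_univ_eq_sum_range
          (fun j => C.g.co u j * ((16 ^ (D.rank - 1 - j) : ℕ) : ℤ)) D.rank]
        push_cast
        exact Finset.sum_congr rfl fun q _ => mul_comm _ _⟩
    have hU' : D.posUnipotent K ≤ C.g.posSub c := by
      rw [C.g.posUnipotent_eq]
      exact C.g.rootGen_le fun r hr hr' t => C.xG_mem_posSub hr' (by
        rw [hc']; exact_mod_cast C.g.wt_pos (show half D ≤ r from hr) hr') t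
    have hN : C.g.xG (π ⟨top D, top_lt C.g⟩ : ℕ) ((e' : K) * ((e : K) * s)) ∈ C.g.geSub (-c) := by
      refine C.xG_mem_geSub (π ⟨top D, top_lt C.g⟩).2 ?_ _
      rw [C.g.lam_neg, hc', neg_nonneg]
      have h1 := C.g.wt_pos ((C.g.neg_neg_iff (C.g.neg_lt (π ⟨top D, top_lt C.g⟩).2)).1
        (by rwa [C.g.neg_neg (π ⟨top D, top_lt C.g⟩).2])) (C.g.neg_lt (π ⟨top D, top_lt C.g⟩).2)
      rw [C.g.wt_neg (π ⟨top D, top_lt C.g⟩).2] at h1
      exact_mod_cast (by omega : C.g.wt (π ⟨top D, top_lt C.g⟩ : ℕ) ≤ 0)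
    exact hw (eq_zero_of_xG_eq_one C.g (π ⟨top D, top_lt C.g⟩).2 (C.g.eq_one_of_pos_neg (hU' hU) hN))
  · exact ⟨v, hv, _, hpos, (π ⟨top D, top_lt C.g⟩).2, hlong, _, hw, hform⟩

lemma conj_lead {v : GL D.Idx K} (hv : v ∈ D.posUnipotent K) {β : ℕ} (hβ : half D ≤ β) (hβ' : β < D.nroots)
    (w : K) : ∃ z ∈ rootGen D K (Set.Ici (β + 1)), v * C.g.xG β w * v⁻¹ = C.g.xG β w * z := by
  obtain ⟨N, hN⟩ : ∃ N, N = rootGen D K (Set.Ici (β + 1)) := ⟨_, rfl⟩
  have hnorm : D.posUnipotent K ≤ Subgroup.normalizer (N : Set (GL D.Idx K)) :=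
    hN ▸ C.g.pos_le_normalizer C.hc (by omega)
  let S : Subgroup (GL D.Idx K) :=
    { carrier := {u | u ∈ D.posUnipotent K ∧ (C.g.xG β w)⁻¹ * (u * C.g.xG β w * u⁻¹) ∈ N}
      one_mem' := ⟨one_mem _, by simp⟩
      mul_mem' := fun {x y} hx hy => ⟨mul_mem hx.1 hy.1, by
        have h1 := (Subgroup.mem_normalizer_iff.1 (hnorm hx.1) _).1 hy.2
        rw [show (C.g.xG β w)⁻¹ * (x * y * C.g.xG β w * (x * y)⁻¹) =
          (C.g.xG β w)⁻¹ * (x * C.g.xG β w * x⁻¹) *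
          (x * ((C.g.xG β w)⁻¹ * (y * C.g.xG β w * y⁻¹)) * x⁻¹) by group]
        exact mul_mem hx.2 h1⟩
      inv_mem' := fun {x} hx => ⟨inv_mem hx.1, by
        have h1 := (Subgroup.mem_normalizer_iff.1 (hnorm (inv_mem hx.1)) _).1 (inv_mem hx.2)
        convert h1 using 1
        group⟩ }
  have hle : D.posUnipotent K ≤ S := by
    rw [C.g.posUnipotent_eq]
    refine C.g.rootGen_le fun r hS hr u =>
      ⟨C.g.xG_mem_posUnipotent ((C.g.isPosRoot_iff r).2 ⟨hS, hr⟩) u, ?_⟩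
    rcases eq_or_ne β r with rfl | hne
    · rw [(xG_commute_self C.g β u w).eq, mul_inv_cancel_right, inv_mul_cancel]
      exact one_mem _
    rw [C.g.xG_conj C.hc hβ' hr hne (ne_neg_of_pos C.g hβ hS hr), inv_mul_cancel_left]
    refine Subgroup.list_prod_mem _ fun z hz => ?_
    obtain ⟨c, hc', rfl⟩ := List.mem_map.1 hz
    obtain ⟨h1, h2, h3, h4⟩ := C.g.commTerms_co C.hc hr hβ' c hc'
    have h5 := C.g.wt_lin h4
    have hwr := C.g.wt_pos (show half D ≤ r from hS) hr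
    have hwb := C.g.wt_pos hβ hβ'
    have : C.g.wt β < C.g.wt c.1 := by
      rw [h5]
      nlinarith [show (1 : ℤ) ≤ (c.2.2.1 : ℤ) by exact_mod_cast h2,
        show (1 : ℤ) ≤ (c.2.2.2 : ℤ) by exact_mod_cast h3]
    rw [hN]
    exact C.g.mem_rootGen h1 (C.g.lt_of_wt_lt hβ' this) _
  exact ⟨_, hN ▸ (hle hv).2, by group⟩

/-- A short positive root element is no long root element. -/
theorem not_topConj_short {s : ℕ} (hs : half D ≤ s) (hs' : s < D.nroots) (hsl : C.long s ≠ true) :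
    ¬C.IsTopConj (C.g.xG s (1 : K)) := by
  intro hc
  obtain ⟨v, hv, β, hβ, hβ', hβl, w, hw, he⟩ :=
    C.exists_pos_form (C.g.xG_mem_posUnipotent ((C.g.isPosRoot_iff s).2 ⟨hs, hs'⟩) 1) hc
  obtain ⟨z, hz, hz'⟩ := C.conj_lead hv hβ hβ' w
  rw [hz'] at he
  rcases lt_trichotomy β s with hlt | heq | hgt
  · refine hw (C.g.Ici_unique hβ hβ' hz (C.g.mem_rootGen hs' hlt 1) ?_).1
    rw [← he, C.g.xG_zero, one_mul]
  · exact hsl (heq ▸ hβl)
  · refine one_ne_zero (α := K) (C.g.Ici_unique hs hs' (one_mem _) ?_ (b := 0) (y := 1) (z := C.g.xG β w * z) ?_).1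
    · exact mul_mem (C.g.mem_rootGen hβ' hgt _)
        (C.g.rootGen_mono (fun r hr _ => by simp only [Set.mem_Ici] at hr ⊢; omega) hz)
    · rw [mul_one, C.g.xG_zero, one_mul, he]

/-- Two orthogonal long root elements give no long root element. -/
theorem not_topConj_pair {α : ℕ} (hα : half D ≤ α) (hα' : α < D.nroots) (hαt : α < top D)
    (hterms : ∀ m, half D ≤ m → m < D.nroots → m ≠ α → D.commTerms m α = [] ∨
      ∃ (k : ℕ) (c : ℤ), D.commTerms m α = [(k, c, 1, 1)] ∧ (c = 1 ∨ c = -1) ∧ k ≠ top D) :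
    ¬C.IsTopConj (C.g.xG α (1 : K) * C.g.xG (top D) 1) := by
  intro hc
  have hT := C.g.xG_mem_posUnipotent (F := K) ((C.g.isPosRoot_iff (top D)).2 ⟨half_le_top C.g, top_lt C.g⟩) 1
  obtain ⟨v, hv, β, hβ, hβ', hβl, w, hw, he⟩ := C.exists_pos_form
    (mul_mem (C.g.xG_mem_posUnipotent ((C.g.isPosRoot_iff α).2 ⟨hα, hα'⟩) 1) hT) hc
  obtain ⟨z, hz, hz'⟩ := C.conj_lead hv hβ hβ' w
  have he' := he.trans hz'
  have htz : C.g.xG (top D) (1 : K) ∈ rootGen D K (Set.Ici (α + 1)) := C.g.mem_rootGen (top_lt C.g) hαt 1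
  have hβα : β = α := by
    rcases lt_trichotomy β α with hlt | heq | hgt
    · exfalso
      refine hw (C.g.Ici_unique hβ hβ' hz ?_ (b := 0) (z := C.g.xG α (1 : K) * C.g.xG (top D) 1) ?_).1
      · exact mul_mem (C.g.mem_rootGen hα' hlt 1)
          (C.g.rootGen_mono (fun r hr _ => by simp only [Set.mem_Ici] at hr ⊢; omega) htz)
      · rw [C.g.xG_zero, one_mul, he']
    · exact heq
    · exfalso
      refine one_ne_zero (α := K) (C.g.Ici_unique hα hα' htz ?_ (b := 0) (z := C.g.xG β w * z) ?_).1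
      · exact mul_mem (C.g.mem_rootGen hβ' hgt _)
          (C.g.rootGen_mono (fun r hr _ => by simp only [Set.mem_Ici] at hr ⊢; omega) hz)
      · rw [C.g.xG_zero, one_mul, he']
  subst hβα
  obtain ⟨h1w, hzz⟩ := C.g.Ici_unique hβ hβ' htz hz he'
  subst h1w
  -- no positive element moves the root element to the product
  have key : ∀ m, half D ≤ m → ∀ y ∈ rootGen D K (Set.Ici m),
      y * C.g.xG β (1 : K) * y⁻¹ * (C.g.xG β 1)⁻¹ ≠ C.g.xG (top D) 1 := by
    intro m hm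
    induction' hk : D.nroots - m with k ih generalizing m
    · intro y hy h0
      rw [C.g.Ici_empty (by omega), Subgroup.mem_bot] at hy
      rw [hy, one_mul, inv_one, mul_one, mul_inv_cancel] at h0
      exact one_ne_zero (eq_zero_of_xG_eq_one C.g (top_lt C.g) h0.symm)
    intro y hy h0
    obtain ⟨a, y', hy', rfl⟩ := C.g.Ici_step C.hc hm (by omega) hy
    refine ih (m + 1) (by omega) (by omega) y' hy' ?_
    have hTc : ∀ x ∈ D.posUnipotent K, x * C.g.xG (top D) 1 * x⁻¹ = C.g.xG (top D) 1 := fun x hx => by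
      rw [(pos_commute_top C.g C.hc C.T hx 1).eq, mul_inv_cancel_right]
    have hxm := C.g.xG_mem_posUnipotent ((C.g.isPosRoot_iff m).2 ⟨hm, by omega⟩) a
    have hcomm : Commute (C.g.xG m a) (C.g.xG β (1 : K)) ∨ a = 0 := by
      rcases eq_or_ne m β with rfl | hne
      · exact Or.inl (xG_commute_self C.g _ _ _)
      rcases hterms m hm (by omega) hne with hnil | ⟨k', c, hone, hc1, hkt⟩
      · exact Or.inl (commute_of_nil C.g C.hc hα' (by omega) (Ne.symm hne)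
          (ne_neg_of_pos C.g hα hm (by omega)) hnil 1 a)
      · right
        obtain ⟨hk1, hk2, -, z', hz2, hz3⟩ := lead_conj C.g C.hc hm (by omega) hα hα' hne hone
          (by simp) hy' a (1 : K)
        rw [h0] at hz3
        have hcK : (c : K) ≠ 0 := by rcases hc1 with rfl | rfl <;> simp
        have hlt : k' < top D := lt_of_le_of_ne (by unfold top; omega) hkt
        have h5 := (C.g.Ici_unique hk2 hk1 hz2 (C.g.mem_rootGen (top_lt C.g) hlt 1)
          (a := (c : K) * a * 1) (b := 0) (by rw [C.g.xG_zero, one_mul, ← hz3])).1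
        rw [mul_one] at h5
        exact (mul_eq_zero.1 h5).resolve_left hcK
    rcases hcomm with hcomm | rfl
    · have h1 : C.g.xG m a * y' * C.g.xG β (1 : K) * (C.g.xG m a * y')⁻¹ * (C.g.xG β 1)⁻¹ =
          C.g.xG m a * (y' * C.g.xG β (1 : K) * y'⁻¹ * (C.g.xG β 1)⁻¹) * (C.g.xG m a)⁻¹ := by
        calc C.g.xG m a * y' * C.g.xG β (1 : K) * (C.g.xG m a * y')⁻¹ * (C.g.xG β 1)⁻¹
            = C.g.xG m a * (y' * C.g.xG β (1 : K) * y'⁻¹) * ((C.g.xG m a)⁻¹ * (C.g.xG β 1)⁻¹) := by group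
          _ = _ := by rw [hcomm.inv_inv.eq]; group
      rw [h1] at h0
      calc y' * C.g.xG β (1 : K) * y'⁻¹ * (C.g.xG β 1)⁻¹
          = (C.g.xG m a)⁻¹ * C.g.xG (top D) 1 * ((C.g.xG m a)⁻¹)⁻¹ := by rw [← h0]; group
        _ = _ := hTc _ (inv_mem hxm)
    · simpa [C.g.xG_zero] using h0
  rw [C.g.posUnipotent_eq] at hv
  refine key (half D) le_rfl v hv ?_
  rw [← he, show C.g.xG β (1 : K) * C.g.xG (top D) 1 * (C.g.xG β 1)⁻¹ = C.g.xG (top D) 1 from ?_]
  rw [(pos_commute_top C.g C.hc C.T (C.g.xG_mem_posUnipotent ((C.g.isPosRoot_iff β).2 ⟨hα, hα'⟩) 1) 1).eq,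
    mul_inv_cancel_right]

end Ctx

end SubFin

end CfsgLib.Chev
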