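import Cfsg.Agent.Lib.Chev.SubFin.Gen
import Cfsg.Agent.Lib.Chev.SubFin.Two
import Cfsg.Agent.Lib.Chev.SubFin.Stab
import Cfsg.Agent.Lib.Chev.SubMaxMain

/-!
Subgroups containing the root elements over a subfield lie between the groups over one intermediate field:
G2, B2, D4, F4, E6, E7, E8.
-/

set_option autoImplicit false
set_option linter.unusedSectionVars false
set_option maxRecDepth 100000

namespace CfsgLib.Chev.SubFin

open Cfsg.Lie Matrix CfsgLib.Chev SubMax

variable {D : ChevalleyDatum} {K : Type*} [Field K] [Fintype K]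

namespace Ctx

variable (C : Ctx D K)

lemma short_witness [CharP K 2] (hQ : C.RadRat) (hrank : 0 < D.rank) (hco : ∀ j < D.rank, 0 < C.g.co (top D) j)
    {s : ℕ} (hs : half D ≤ s) (hs' : s < D.nroots) (hsl : C.long s ≠ true) : C.H = C.M :=
  C.le_M_of_two hQ hrank hco (C.xG_mem_M hs' (map_one _))
    (fun h => one_ne_zero (eq_zero_of_xG_eq_one C.g hs' h))
    (by rw [C.g.xG_add, CharTwo.add_self_eq_zero, C.g.xG_zero]) (C.not_topConj_short hs hs' hsl)

lemma pair_witness [CharP K 2] (hQ : C.RadRat) (hrank : 0 < D.rank) (hco : ∀ j < D.rank, 0 < C.g.co (top D) j)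
    {α : ℕ} (hα : half D ≤ α) (hα' : α < D.nroots) (hαt : α < top D) (hok : pairOK D α = true) : C.H = C.M := by
  have hc := pos_commute_top C.g C.hc C.T
    (C.g.xG_mem_posUnipotent (F := K) ((C.g.isPosRoot_iff α).2 ⟨hα, hα'⟩) 1) (1 : K)
  refine C.le_M_of_two hQ hrank hco (mul_mem (C.xG_mem_M hα' (map_one _)) C.top_mem_M) (fun h => ?_) ?_
    (C.not_topConj_pair hα hα' hαt (pairTerms_of_check C.g hα' hok))
  · have h1 : C.g.xG (⟨α, hα'⟩ : Fin D.nroots) (1 : K) = C.g.xG (⟨top D, top_lt C.g⟩ : Fin D.nroots) (-1) := by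
      rw [← C.g.xG_inv]
      exact eq_inv_of_mul_eq_one_left h
    have := congrArg Fin.val (root_eq_of_xG_eq C.g one_ne_zero h1)
    simp only at this
    omega
  · rw [show C.g.xG α (1 : K) * C.g.xG (top D) 1 * (C.g.xG α (1 : K) * C.g.xG (top D) 1) =
      C.g.xG α (1 : K) * (C.g.xG (top D) 1 * C.g.xG α (1 : K)) * C.g.xG (top D) 1 by group, ← hc.eq,
      show C.g.xG α (1 : K) * (C.g.xG α (1 : K) * C.g.xG (top D) 1) * C.g.xG (top D) 1 =
      (C.g.xG α (1 : K) * C.g.xG α 1) * (C.g.xG (top D) 1 * C.g.xG (top D) 1) by group,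
      C.g.xG_add, C.g.xG_add, CharTwo.add_self_eq_zero, C.g.xG_zero, C.g.xG_zero, one_mul]

/-- The pencil gives closed parameters. -/
theorem mul_of_pencil {γ α : ℕ} (hγ : γ < D.nroots) (hα : α < D.nroots)
    (hok : pencilOK D C.long γ α = true) (hγl : C.long γ = true) (hαl : C.long α = true) :
    ∀ a ∈ C.topSet, ∀ b ∈ C.topSet, a * b ∈ C.topSet := by
  simp only [pencilOK, Bool.and_eq_true, decide_eq_true_eq] at hok
  obtain ⟨⟨⟨⟨⟨⟨⟨⟨⟨⟨⟨⟨⟨⟨⟨⟨⟨-, -⟩, k3⟩, k4⟩, -⟩, -⟩, -⟩, -⟩, -⟩, -⟩, -⟩, -⟩, -⟩, -⟩, -⟩, -⟩, -⟩, k18⟩ := hok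
  exact C.topSet_mul_of_pencil hγ hα hγl hαl (Ne.symm k3) k4 (Or.inl rfl) k18

/-- With rational parameters and a pencil, everything is over the subfield. -/
theorem eq_of_pencil {γ α : ℕ} (hγ : γ < D.nroots) (hα : α < D.nroots)
    (hok : pencilOK D C.long γ α = true) (hT : C.TopRat) (hQ : C.RadRat)
    (htwo : CharP K 2 → C.H = C.M) : C.H = C.M := by
  by_cases h2 : (2 : K) = 0
  · exact htwo (CharTwo.of_one_ne_zero_of_two_eq_zero one_ne_zero h2)
  · exact le_antisymm (C.le_M_of_pencil h2 hT hQ hγ hα hok) C.M_le_H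

/-- The radical and the stabiliser in good characteristic. -/
theorem rat_of_pencil {γ α : ℕ} (hγ : γ < D.nroots) (hα : α < D.nroots)
    (hok : pencilOK D C.long γ α = true) (hαl : C.long α = true) (hT : C.TopRat)
    (hgood : ∀ r ∈ radSet D, r ≠ top D → ∃ a ∈ radSet D, (nRad C.g r a : K) ≠ 0) : C.RadRat :=
  ⟨C.radRat_of_good hT hgood, C.stab_of_pencil hT hgood hγ hα hok hαl⟩

end Ctx

/-- The conclusion for one subgroup. -/
def Between (g : Good D) (E : FExt K) (H : Subgroup (GL D.Idx K)) : Prop :=
  ∃ d, 0 < d ∧ d ∣ E.r ∧ (∀ r < D.nroots, ∀ t : K, t ^ E.q ^ d = t → g.xG r t ∈ H) ∧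
    ∀ x ∈ H, ∀ i j, ((x : Matrix D.Idx D.Idx K) i j) ^ E.q ^ d = (x : Matrix D.Idx D.Idx K) i j

/-- The reduction to rational parameters. -/
theorem between_of (g : Good D) (hc : HasComm D) (hse : SuppEq D) {long : ℕ → Bool} (T : TopData g long)
    (hshort : shortCovOK D long = true)
    (hmul : ∀ C : Ctx D K, C.long = long → ∀ a ∈ C.topSet, ∀ b ∈ C.topSet, a * b ∈ C.topSet)
    (hrat : ∀ C : Ctx D K, C.long = long → C.TopRat → C.H = C.M)
    (E : FExt K) (H : Subgroup (GL D.Idx K)) (lo : ∀ r < D.nroots, ∀ t : K, E.σ t = t → g.xG r t ∈ H)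
    (hi : H ≤ D.group K) : Between g E H := by
  let C : Ctx D K := ⟨g, hc, hse, long, T, E, H, lo, hi⟩
  obtain ⟨d, hd0, hdr, hd⟩ := E.exists_deg_of_closed C.topSet (fun t ht => C.topSet_of_fixed ht) (hmul C rfl)
  have hroot : ∀ r < D.nroots, ∀ t : K, t ^ E.q ^ d = t → g.xG r t ∈ H := fun r hr t ht =>
    C.root_mem_of_topSet (hmul C rfl) (shortCov_of_check hshort) hr ((hd t).2 ht)
  refine ⟨d, hd0, hdr, hroot, ?_⟩
  obtain ⟨e, he⟩ := hdr
  have he0 : 0 < e := by
    rcases Nat.eq_zero_or_pos e with h | h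
    · have := E.hr; rw [he, h] at this; omega
    · exact h
  let E' : FExt K :=
    { q := E.q ^ d
      r := e
      σ := E.σ ^ d
      hq := Nat.one_lt_pow hd0.ne' E.hq
      hr := he0
      hK := by rw [E.hK, he, pow_mul]
      hσ := fun t => by rw [RingHom.coe_pow, E.iterate_apply] }
  have hσ : ∀ t, E'.σ t = t ^ E.q ^ d := E'.hσ
  let C' : Ctx D K := ⟨g, hc, hse, long, T, E', H, fun r hr t ht => hroot r hr t (by rw [← hσ]; exact ht), hi⟩
  have hT : C'.TopRat := fun t ht => by rw [hσ]; exact (hd t).1 ht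
  have h := hrat C' rfl hT
  intro x hx i j
  have h1 : x ∈ C'.M := h ▸ hx
  rw [← hσ]
  exact congrArg (fun A : Matrix D.Idx D.Idx K => A i j) (congrArg Units.val h1.2)

lemma charTwo_or' (K : Type*) [Field K] : CharP K 2 ∨ (2 : K) ≠ 0 := by
  by_cases h : (2 : K) = 0
  · exact Or.inl (CharTwo.of_one_ne_zero_of_two_eq_zero one_ne_zero h)
  · exact Or.inr h

theorem rat_G2 (C : Ctx chevG2 K) (hlong : C.long = longOf shortG2) (hT : C.TopRat) : C.H = C.M := by
  have hQ : C.RadRat := by
    by_cases h3 : (3 : K) = 0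
    · haveI : CharP K 3 := by
        obtain ⟨c, hc⟩ := CharP.exists K
        have hd : c ∣ 3 := (CharP.cast_eq_zero_iff K c 3).1 (by exact_mod_cast h3)
        rcases (Nat.dvd_prime Nat.prime_three).1 hd with rfl | rfl
        · exact absurd rfl (CharP.char_ne_one K 1)
        · exact hc
      exact qRat_stab_G2 C hT
    · exact C.rat_of_pencil (γ := 6) (α := 10) (by decide) (by decide) (hlong ▸ (by decide +kernel))
        (hlong ▸ (by decide +kernel)) hT (good_of_check C.g (e := 3) (by decide +kernel) (by exact_mod_cast h3))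
  exact C.eq_of_pencil (γ := 6) (α := 10) (by decide) (by decide) (hlong ▸ (by decide +kernel)) hT hQ
    fun _ => C.short_witness hQ (by decide) (topCo_of_check C.g checksG2 structChecksG2 (by decide +kernel))
      (s := 7) (by decide +kernel) (by decide) (hlong ▸ (by decide +kernel))

theorem rat_F4 (C : Ctx chevF4 K) (hlong : C.long = longOf shortF4) (hT : C.TopRat) : C.H = C.M := by
  have hQ : C.RadRat := by
    rcases charTwo_or' K with h | h
    · exact qRat_stab_F4 C hT
    · exact C.rat_of_pencil (γ := 24) (α := 46) (by decide) (by decide) (hlong ▸ (by decide +kernel))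
        (hlong ▸ (by decide +kernel)) hT (good_of_check C.g (e := 2) (by decide +kernel) (by exact_mod_cast h))
  exact C.eq_of_pencil (γ := 24) (α := 46) (by decide) (by decide) (hlong ▸ (by decide +kernel)) hT hQ
    fun _ => C.short_witness hQ (by decide) (topCo_of_check C.g checksF4 structChecksF4 (by decide +kernel))
      (s := 33) (by decide +kernel) (by decide) (hlong ▸ (by decide +kernel))

theorem rat_B2 (C : Ctx chevB2 K) (hlong : C.long = longOf shortB2) (hT : C.TopRat) : C.H = C.M := by
  rcases charTwo_or' K with h | h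
  · exact C.short_witness (qRat_stab_B2 C hT) (by decide)
      (topCo_of_check C.g checksB2 structChecksB2 (by decide +kernel)) (s := 5) (by decide +kernel) (by decide)
      (hlong ▸ (by decide +kernel))
  · have hgood := good_of_check C.g (K := K) (e := 2) (by decide +kernel) (by exact_mod_cast h)
    exact le_antisymm (le_M_B2_odd C hlong h hT
      ⟨C.radRat_of_good hT hgood, Ctx.stab_B2_odd C hlong h hT hgood⟩) C.M_le_H

theorem mul_B2 (C : Ctx chevB2 K) (hlong : C.long = longOf shortB2) :
    ∀ a ∈ C.topSet, ∀ b ∈ C.topSet, a * b ∈ C.topSet := by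
  rcases charTwo_or' K with h | h
  · exact b2_two_mul C hlong
  · exact b2_mul_odd C hlong h

theorem rat_D4 (C : Ctx chevD4 K) (hlong : C.long = longOf []) (hT : C.TopRat) : C.H = C.M := by
  have hQ : C.RadRat := C.rat_of_pencil (γ := 14) (α := 22) (by decide) (by decide)
    (hlong ▸ (by decide +kernel)) (hlong ▸ (by decide +kernel)) hT
    (good_of_check C.g (e := 1) (by decide +kernel) (by simp))
  exact C.eq_of_pencil (γ := 14) (α := 22) (by decide) (by decide) (hlong ▸ (by decide +kernel)) hT hQ
    fun _ => C.pair_witness hQ (by decide) (topCo_of_check C.g checksD4 structChecksD4 (by decide +kernel))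
      (α := 12) (by decide +kernel) (by decide) (by decide +kernel) (by decide +kernel)

theorem rat_E6 (C : Ctx chevE6 K) (hlong : C.long = longOf []) (hT : C.TopRat) : C.H = C.M := by
  have hQ : C.RadRat := C.rat_of_pencil (γ := 46) (α := 70) (by decide) (by decide)
    (hlong ▸ (by decide +kernel)) (hlong ▸ (by decide +kernel)) hT
    (good_of_check C.g (e := 1) (by decide +kernel) (by simp))
  exact C.eq_of_pencil (γ := 46) (α := 70) (by decide) (by decide) (hlong ▸ (by decide +kernel)) hT hQ
    fun _ => C.pair_witness hQ (by decide) (topCo_of_check C.g checksE6 structChecksE6 (by decide +kernel))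
      (α := 36) (by decide +kernel) (by decide) (by decide +kernel) (by decide +kernel)

theorem rat_E7 (C : Ctx chevE7 K) (hlong : C.long = longOf []) (hT : C.TopRat) : C.H = C.M := by
  have hQ : C.RadRat := C.rat_of_pencil (γ := 93) (α := 124) (by decide) (by decide)
    (hlong ▸ (by decide +kernel)) (hlong ▸ (by decide +kernel)) hT
    (good_of_check C.g (e := 1) (by decide +kernel) (by simp))
  exact C.eq_of_pencil (γ := 93) (α := 124) (by decide) (by decide) (hlong ▸ (by decide +kernel)) hT hQ
    fun _ => C.pair_witness hQ (by decide) (topCo_of_check C.g checksE7 structChecksE7 (by decide +kernel))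
      (α := 63) (by decide +kernel) (by decide) (by decide +kernel) (by decide +kernel)

theorem rat_E8 (C : Ctx chevE8 K) (hlong : C.long = longOf []) (hT : C.TopRat) : C.H = C.M := by
  have hQ : C.RadRat := C.rat_of_pencil (γ := 120) (α := 238) (by decide) (by decide)
    (hlong ▸ (by decide +kernel)) (hlong ▸ (by decide +kernel)) hT
    (good_of_check C.g (e := 1) (by decide +kernel) (by simp))
  exact C.eq_of_pencil (γ := 120) (α := 238) (by decide) (by decide) (hlong ▸ (by decide +kernel)) hT hQ
    fun _ => C.pair_witness hQ (by decide) (topCo_of_check C.g checksE8 structChecksE8 (by decide +kernel))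
      (α := 121) (by decide +kernel) (by decide) (by decide +kernel) (by decide +kernel)

/-- Finite fields: a subgroup containing the root elements over a subfield lies between two groups over one
intermediate field. -/
theorem between {D : ChevalleyDatum} (hD : D ∈ [chevG2, chevB2, chevD4, chevF4, chevE6, chevE7, chevE8])
    (g : Good D) (E : FExt K) (H : Subgroup (GL D.Idx K))
    (lo : ∀ r < D.nroots, ∀ t : K, E.σ t = t → g.xG r t ∈ H) (hi : H ≤ D.group K) : Between g E H := by
  have hc := hasComm_of_mem hD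
  have hse := suppEq_of_mem hD
  simp only [List.mem_cons, List.not_mem_nil, or_false] at hD
  rcases hD with rfl | rfl | rfl | rfl | rfl | rfl | rfl
  · exact between_of g hc hse topG2 (by decide +kernel) (fun C h => C.mul_of_pencil (γ := 6) (α := 10) (by decide)
      (by decide) (h ▸ (by decide +kernel)) (h ▸ (by decide +kernel)) (h ▸ (by decide +kernel))) rat_G2 E H lo hi
  · exact between_of g hc hse topB2 (by decide +kernel) mul_B2 rat_B2 E H lo hi
  · exact between_of g hc hse topD4 (by decide +kernel) (fun C h => C.mul_of_pencil (γ := 14) (α := 22) (by decide)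
      (by decide) (h ▸ (by decide +kernel)) (h ▸ (by decide +kernel)) (h ▸ (by decide +kernel))) rat_D4 E H lo hi
  · exact between_of g hc hse topF4 (by decide +kernel) (fun C h => C.mul_of_pencil (γ := 24) (α := 46) (by decide)
      (by decide) (h ▸ (by decide +kernel)) (h ▸ (by decide +kernel)) (h ▸ (by decide +kernel))) rat_F4 E H lo hi
  · exact between_of g hc hse topE6 (by decide +kernel) (fun C h => C.mul_of_pencil (γ := 46) (α := 70) (by decide)
      (by decide) (h ▸ (by decide +kernel)) (h ▸ (by decide +kernel)) (h ▸ (by decide +kernel))) rat_E6 E H lo hi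
  · exact between_of g hc hse topE7 (by decide +kernel) (fun C h => C.mul_of_pencil (γ := 93) (α := 124) (by decide)
      (by decide) (h ▸ (by decide +kernel)) (h ▸ (by decide +kernel)) (h ▸ (by decide +kernel))) rat_E7 E H lo hi
  · exact between_of g hc hse topE8 (by decide +kernel) (fun C h => C.mul_of_pencil (γ := 120) (α := 238) (by decide)
      (by decide) (h ▸ (by decide +kernel)) (h ▸ (by decide +kernel)) (h ▸ (by decide +kernel))) rat_E8 E H lo hi

end CfsgLib.Chev.SubFin
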