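import Cfsg.Agent.Lib.Chev.SubFin.Main

/-!
Finite subgroups over an algebraically closed field, by specialisation to finite fields.
-/

set_option autoImplicit false
set_option linter.unusedSectionVars false

namespace CfsgLib.Chev.SubFin

open Cfsg.Lie Matrix CfsgLib.Chev

variable {D : ChevalleyDatum} (g : Good D)
include g

/-- The root element over a ring. -/
noncomputable def xU (R : Type*) [CommRing R] (s : Fin D.nroots) (t : R) : (Matrix D.Idx D.Idx R)ˣ :=
  ⟨xr D R s t, xr D R s (-t), g.lie.xr_inv s.2 t,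
    by simpa using g.lie.xr_inv (R := R) s.2 (-t)⟩

lemma map_xU {R : Type*} [CommRing R] {F : Type*} [Field F] (f : R →+* F) (s : Fin D.nroots) (t : R) :
    Units.map f.mapMatrix.toMonoidHom (xU g R s t) = g.xG s (f t) := by
  refine Units.ext ?_
  rw [g.coe_xG, g.x_eq_xr s.2]
  exact xr_map f _ t

/-- The group generated by the root elements over a ring. -/
noncomputable def gU (R : Type*) [CommRing R] : Subgroup (Matrix D.Idx D.Idx R)ˣ :=
  Subgroup.closure (Set.range fun x : Fin D.nroots × R => xU g R x.1 x.2)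

lemma map_gU_le {R : Type*} [CommRing R] {F : Type*} [Field F] (f : R →+* F) :
    (gU g R).map (Units.map f.mapMatrix.toMonoidHom) ≤ D.group F := by
  rw [Subgroup.map_le_iff_le_comap, gU, Subgroup.closure_le]
  rintro _ ⟨⟨s, t⟩, rfl⟩
  simp only [SetLike.mem_coe, Subgroup.mem_comap, map_xU]
  exact g.xG_mem_group s.2 _

omit g in
/-- Elements fixed by a power of `t ↦ t ^ q` lift along a homomorphism of finite fields. -/
lemma fixed_lift {K₀ F : Type*} [Field K₀] [Fintype K₀] [Field F] [Fintype F] (f : K₀ →+* F) {Q e e' : ℕ}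
    (hQ : 1 < Q) (hK₀ : Fintype.card K₀ = Q ^ e) (hF : Fintype.card F = Q ^ e') {t : F} (ht : t ^ Q = t) :
    ∃ x : K₀, x ^ Q = x ∧ f x = t := by
  have hinj : Function.Injective (fun x : {c : K₀ // c ^ Q = c} =>
      (⟨f x.1, by rw [← map_pow, x.2]⟩ : {c : F // c ^ Q = c})) :=
    fun x y h => Subtype.ext (f.injective (congrArg Subtype.val h :))
  have hbij := (Nat.bijective_iff_injective_and_card _).2
    ⟨hinj, by rw [card_pow_eq_self hQ hK₀, card_pow_eq_self hQ hF]⟩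
  obtain ⟨x, hx⟩ := hbij.2 ⟨t, ht⟩
  exact ⟨x.1, x.2, congrArg Subtype.val hx⟩

omit g in
lemma pow_eq_of_dvd {R : Type*} [Monoid R] {c : R} {q d N : ℕ} (hdvd : d ∣ N) (h : c ^ q ^ d = c) :
    c ^ q ^ N = c := by
  obtain ⟨m, rfl⟩ := hdvd
  induction m with
  | zero => simp
  | succ m ih => rw [Nat.mul_succ, pow_add, pow_mul, ih, h]

omit g in
/-- A finite field containing another has its order a power of the smaller one. -/
lemma card_eq_pow_of_hom {K₀ F : Type*} [Field K₀] [Fintype K₀] [Field F] [Fintype F] (f : K₀ →+* F) :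
    ∃ e, 0 < e ∧ Fintype.card F = Fintype.card K₀ ^ e := by
  let _ := f.toAlgebra
  exact ⟨_, Module.finrank_pos, Module.card_eq_pow_finrank⟩

/-- Specialisation: a finite subgroup containing the root elements over a finite field lies between the groups
over one finite field. -/
theorem finite_overgroup {k : Type*} [Field k] [IsAlgClosed k] (p : ℕ) [Fact p.Prime] [CharP k p]
    (hD : D ∈ [chevG2, chevB2, chevD4, chevF4, chevE6, chevE7, chevE8]) {a : ℕ} (ha : 1 ≤ a)
    (M : Subgroup (GL D.Idx k)) [Finite M] (hMG : M ≤ D.group k)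
    (hLM : ∀ s < D.nroots, ∀ t : k, t ^ (p ^ a) = t → g.xG s t ∈ M) :
    ∃ d, 1 ≤ d ∧ (∀ s < D.nroots, ∀ t : k, t ^ ((p ^ a) ^ d) = t → g.xG s t ∈ M) ∧
      ∀ m ∈ M, ∀ i j : D.Idx, ((m : Matrix D.Idx D.Idx k) i j) ^ ((p ^ a) ^ d) = (m : Matrix D.Idx D.Idx k) i j := by
  classical
  have hp : p.Prime := Fact.out
  obtain ⟨q, hq⟩ : ∃ q, q = p ^ a := ⟨_, rfl⟩
  have hq1 : 1 < q := hq ▸ Nat.one_lt_pow (by omega) hp.one_lt
  obtain ⟨N, hN⟩ : ∃ N, N = (Nat.card M).factorial := ⟨_, rfl⟩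
  have hN0 : 0 < N := hN ▸ Nat.factorial_pos _
  rw [← hq] at hLM ⊢
  -- the finite field of all candidates
  let K₀ : Subfield k := RingHom.eqLocusField (iterateFrobenius k p (a * N)) (RingHom.id k)
  have hmem : ∀ c : k, c ∈ K₀ ↔ c ^ q ^ N = c := fun c => by
    show iterateFrobenius k p (a * N) c = c ↔ _
    rw [iterateFrobenius_def, hq, ← pow_mul]
  have hQ1 : 1 < q ^ N := Nat.one_lt_pow hN0.ne' hq1
  have hdeg : (Polynomial.X ^ (q ^ N) - Polynomial.X : Polynomial k).natDegree = q ^ N :=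
    FiniteField.X_pow_card_sub_X_natDegree_eq k hQ1
  have hne0 : (Polynomial.X ^ (q ^ N) - Polynomial.X : Polynomial k) ≠ 0 :=
    FiniteField.X_pow_card_sub_X_ne_zero k hQ1
  have hroots : ∀ c : k, c ∈ (Polynomial.X ^ (q ^ N) - Polynomial.X : Polynomial k).roots.toFinset ↔
      c ^ q ^ N = c := fun c => by
    rw [Multiset.mem_toFinset, Polynomial.mem_roots hne0, Polynomial.IsRoot.def]
    simp [sub_eq_zero]
  obtain ⟨Z, hZ⟩ : ∃ Z, Z = (Polynomial.X ^ (q ^ N) - Polynomial.X : Polynomial k).roots.toFinset := ⟨_, rfl⟩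
  have hKZ : ∀ c : k, c ∈ K₀ ↔ c ∈ Z := fun c => by rw [hmem, hZ, hroots]
  have : Finite K₀ := Finite.of_equiv _ (Equiv.subtypeEquivRight fun c => (hKZ c).symm)
  let _ : Fintype K₀ := Fintype.ofFinite _
  have hK₀ : Fintype.card K₀ = q ^ N := by
    rw [Fintype.card_congr (Equiv.subtypeEquivRight hKZ), Fintype.card_coe, hZ, Multiset.toFinset_card_of_nodup,
      IsAlgClosed.card_roots_eq_natDegree, hdeg]
    refine Polynomial.nodup_roots (galois_poly_separable p _ ?_)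
    rw [hq]
    exact dvd_pow (dvd_pow_self p (by omega)) hN0.ne'
  -- the parameters
  let _ : Algebra (ZMod p) k := ZMod.algebra k p
  have hex : ∀ m ∈ D.group k, ∃ T : Finset k, ∀ R : Subalgebra (ZMod p) k, (T : Set k) ⊆ R →
      m ∈ (gU g R).map (Units.map (R.val : R →+* k).mapMatrix.toMonoidHom) := by
    let S : Subgroup (GL D.Idx k) :=
      { carrier := {m | ∃ T : Finset k, ∀ R : Subalgebra (ZMod p) k, (T : Set k) ⊆ R →
          m ∈ (gU g R).map (Units.map (R.val : R →+* k).mapMatrix.toMonoidHom)}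
        one_mem' := ⟨∅, fun R _ => one_mem _⟩
        mul_mem' := by
          rintro x y ⟨T, hT⟩ ⟨T', hT'⟩
          exact ⟨T ∪ T', fun R hR => mul_mem (hT R (fun c hc => hR (Finset.mem_union_left _ hc)))
            (hT' R (fun c hc => hR (Finset.mem_union_right _ hc)))⟩
        inv_mem' := by
          rintro x ⟨T, hT⟩
          exact ⟨T, fun R hR => inv_mem (hT R hR)⟩ }
    intro m hm
    refine (show D.group k ≤ S from g.group_le fun s hs t => ⟨{t}, fun R hR => ?_⟩) hm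
    refine ⟨xU g R ⟨s, hs⟩ ⟨t, hR (by simp)⟩, Subgroup.subset_closure ⟨(_, _), rfl⟩, ?_⟩
    exact map_xU g _ _ _
  choose T hT using fun m : M => hex m (hMG m.2)
  let _ : Fintype M := Fintype.ofFinite _
  let R : Subalgebra (ZMod p) k := Algebra.adjoin (ZMod p) ((Z ∪ Finset.univ.biUnion T : Finset k) : Set k)
  have : Algebra.FiniteType (ZMod p) R := (Subalgebra.fg_iff_finiteType _).1 (Subalgebra.fg_adjoin_finset _)
  have : IsJacobsonRing R := isJacobsonRing_of_finiteType (A := ZMod p)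
  let incl : R →+* k := R.val
  let inclM : (Matrix D.Idx D.Idx R)ˣ →* GL D.Idx k := Units.map incl.mapMatrix.toMonoidHom
  have hincl : Function.Injective inclM := fun x y h => Units.ext (Matrix.ext fun i j => Subtype.ext
    (congrArg (fun A : Matrix D.Idx D.Idx k => A i j) (congrArg Units.val h)))
  let M' : Subgroup (Matrix D.Idx D.Idx R)ˣ := M.comap inclM ⊓ gU g R
  have hsurj : ∀ m ∈ M, ∃ m' ∈ M', inclM m' = m := fun m hm => by
    obtain ⟨m', hm', he⟩ := hT ⟨m, hm⟩ R (fun c hc => Algebra.subset_adjoin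
      (Finset.mem_union_right _ (Finset.mem_biUnion.2 ⟨_, Finset.mem_univ _, hc⟩)))
    refine ⟨m', Subgroup.mem_inf.2 ⟨?_, hm'⟩, he⟩
    show inclM m' ∈ M
    exact he ▸ hm
  let ι₀ : K₀ →+* R := K₀.subtype.codRestrict R fun c =>
    Algebra.subset_adjoin (Finset.mem_union_left _ ((hKZ c.1).1 c.2))
  let j₀ : M' → M := fun x => ⟨inclM x.1, (Subgroup.mem_inf.1 x.2).1⟩
  have hj₀ : Function.Injective j₀ := fun x y h => Subtype.ext (hincl (congrArg Subtype.val h))
  have : Finite M' := Finite.of_injective j₀ hj₀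
  -- the lift of a root element over the small field
  have hroot : ∀ (s : Fin D.nroots) (c : K₀), (c : k) ^ q = c → xU g R s (ι₀ c) ∈ M' := fun s c hc => by
    refine Subgroup.mem_inf.2 ⟨?_, Subgroup.subset_closure ⟨(_, _), rfl⟩⟩
    show inclM (xU g R s (ι₀ c)) ∈ M
    rw [show inclM (xU g R s (ι₀ c)) = g.xG s (c : k) from map_xU g incl s (ι₀ c)]
    exact hLM s s.2 _ hc
  -- one maximal ideal
  have key : ∀ I : Ideal R, I.IsMaximal → ∃ d, 1 ≤ d ∧ d ∣ N ∧
      (∀ m ∈ M', ∀ i j, ((m : Matrix D.Idx D.Idx R) i j) ^ q ^ d - (m : Matrix D.Idx D.Idx R) i j ∈ I) ∧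
      ∀ (s : Fin D.nroots) (c : K₀), c ^ q ^ d = c → ∃ m ∈ M', ∀ i j,
        (m : Matrix D.Idx D.Idx R) i j - (xU g R s (ι₀ c) : Matrix D.Idx D.Idx R) i j ∈ I := by
    intro I hI
    let _ : Field (R ⧸ I) := Ideal.Quotient.field I
    have : Algebra.FiniteType (ZMod p) (R ⧸ I) := Algebra.FiniteType.quotient (ZMod p) I
    have := finite_of_finite_type_of_isJacobsonRing (ZMod p) (R ⧸ I)
    have : Finite (R ⧸ I) := Module.finite_of_finite (ZMod p)
    let _ : Fintype (R ⧸ I) := Fintype.ofFinite _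
    let φ : R →+* R ⧸ I := Ideal.Quotient.mk I
    let f : K₀ →+* R ⧸ I := φ.comp ι₀
    obtain ⟨e, he0, he⟩ := card_eq_pow_of_hom f
    rw [hK₀] at he
    rw [← pow_mul] at he
    obtain ⟨σ, hσ⟩ := exists_powMap_ringHom (q := q) (j := N * e)
      (hq ▸ ⟨p, a, Nat.prime_iff.1 hp, ha, rfl⟩) he (Nat.mul_pos hN0 he0)
    let E : FExt (R ⧸ I) := ⟨q, N * e, σ, hq1, Nat.mul_pos hN0 he0, he, hσ⟩
    let φM : (Matrix D.Idx D.Idx R)ˣ →* GL D.Idx (R ⧸ I) := Units.map φ.mapMatrix.toMonoidHom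
    obtain ⟨H, hH⟩ : ∃ H, H = M'.map φM := ⟨_, rfl⟩
    have hi : H ≤ D.group (R ⧸ I) := by
      rw [hH]
      exact (Subgroup.map_mono inf_le_right).trans (map_gU_le g φ)
    have lo : ∀ s < D.nroots, ∀ t, E.σ t = t → g.xG s t ∈ H := fun s hs t ht => by
      obtain ⟨x, hx, rfl⟩ := fixed_lift f hq1 hK₀ he (t := t) (by rw [← hσ]; exact ht)
      exact hH ▸ ⟨_, hroot ⟨s, hs⟩ x (congrArg Subtype.val hx), map_xU g φ ⟨s, hs⟩ (ι₀ x)⟩
    obtain ⟨d, hd0, ⟨e', he'⟩, hdroot, hdfix⟩ := between hD g E H lo hi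
    have he'' : Fintype.card (R ⧸ I) = (q ^ d) ^ e' := by
      rw [← pow_mul]
      exact he.trans (congrArg _ he')
    -- the bound
    have hbound : q ^ d ≤ Nat.card M := by
      have hr0 : 0 < D.nroots := lt_of_le_of_lt (Nat.zero_le _) (SubMax.top_lt g)
      calc q ^ d = Nat.card {c : R ⧸ I // c ^ q ^ d = c} :=
            (card_pow_eq_self (Nat.one_lt_pow hd0.ne' hq1) he'').symm
        _ ≤ Nat.card H := Nat.card_le_card_of_injective
            (fun c => (⟨g.xG 0 c.1, hdroot 0 hr0 c.1 c.2⟩ : H))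
            (fun x y h => Subtype.ext (SubMax.xG_inj g hr0 (congrArg Subtype.val h :)))
        _ ≤ Nat.card M' := by
          refine Nat.card_le_card_of_surjective (fun x : M' => (⟨φM x.1, by rw [hH]; exact ⟨_, x.2, rfl⟩⟩ : H)) ?_
          rintro ⟨y, hy⟩
          rw [hH] at hy
          obtain ⟨x, hx, rfl⟩ := hy
          exact ⟨⟨x, hx⟩, rfl⟩
        _ ≤ Nat.card M := Nat.card_le_card_of_injective j₀ hj₀
    have hdN : d ∣ N := hN ▸ Nat.dvd_factorial hd0 ((Nat.lt_pow_self hq1).le.trans hbound)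
    refine ⟨d, hd0, hdN, fun m hm i j => ?_, fun s c hc => ?_⟩
    · rw [← Ideal.Quotient.eq_zero_iff_mem, map_sub, map_pow, sub_eq_zero]
      exact hdfix (φM m) (by rw [hH]; exact ⟨m, hm, rfl⟩) i j
    · have hc' : f c ^ q ^ d = f c := by rw [← map_pow, hc]
      have := hdroot s s.2 (f c) hc'
      rw [hH] at this
      obtain ⟨m, hm, hme⟩ := this
      refine ⟨m, hm, fun i j => ?_⟩
      rw [← Ideal.Quotient.eq]
      have h1 : φM m = φM (xU g R s (ι₀ c)) := hme.trans (map_xU g φ s (ι₀ c)).symm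
      exact congrArg (fun A : Matrix D.Idx D.Idx (R ⧸ I) => A i j) (congrArg Units.val h1)
  -- all entries are algebraic
  have halg : ∀ m ∈ M', ∀ i j, ((m : Matrix D.Idx D.Idx R) i j : k) ∈ K₀ := fun m hm i j => by
    have h : ((m : Matrix D.Idx D.Idx R) i j) ^ q ^ N - (m : Matrix D.Idx D.Idx R) i j ∈
        (⊥ : Ideal R).jacobson := by
      rw [Ideal.jacobson, Submodule.mem_sInf]
      rintro I ⟨-, hI⟩
      obtain ⟨d, -, hdN, hd, -⟩ := key I hI
      rw [← Ideal.Quotient.eq_zero_iff_mem, map_sub, map_pow, sub_eq_zero]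
      refine pow_eq_of_dvd hdN ?_
      rw [← map_pow, ← sub_eq_zero, ← map_sub, Ideal.Quotient.eq_zero_iff_mem]
      exact hd m hm i j
    rw [← Ideal.radical_eq_jacobson, Ideal.radical_bot_of_noZeroDivisors, Ideal.mem_bot, sub_eq_zero] at h
    rw [hmem]
    exact congrArg Subtype.val h
  obtain ⟨I, hI⟩ := Ideal.exists_maximal R
  obtain ⟨d, hd0, hdN, hfix, hrt⟩ := key I hI
  have hinj : ∀ x y : K₀, ι₀ x - ι₀ y ∈ I → x = y := fun x y h =>
    ((Ideal.Quotient.mk I).comp ι₀).injective ((Ideal.Quotient.eq).2 h)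
  have hlift : ∀ m ∈ M', ∀ i j, ∃ c : K₀, ι₀ c = (m : Matrix D.Idx D.Idx R) i j := fun m hm i j =>
    ⟨⟨_, halg m hm i j⟩, Subtype.ext rfl⟩
  refine ⟨d, hd0, fun s hs t ht => ?_, fun m hm i j => ?_⟩
  · obtain ⟨c, rfl⟩ : ∃ c : K₀, (c : k) = t := ⟨⟨t, (hmem t).2 (pow_eq_of_dvd hdN ht)⟩, rfl⟩
    obtain ⟨m', hm', he⟩ := hrt ⟨s, hs⟩ c (Subtype.ext (by simpa using ht))
    have heq : m' = xU g R ⟨s, hs⟩ (ι₀ c) := by
      refine Units.ext (Matrix.ext fun i j => ?_)
      obtain ⟨x, hx⟩ := hlift m' hm' i j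
      have h2 : (xU g R ⟨s, hs⟩ (ι₀ c) : Matrix D.Idx D.Idx R) i j = ι₀ (xr D K₀ s c i j) :=
        (congrArg (fun A : Matrix D.Idx D.Idx R => A i j) (xr_map ι₀ s c)).symm
      have h3 := he i j
      rw [← hx, h2] at h3
      rw [← hx, h2, hinj _ _ h3]
    have h1 : inclM m' ∈ M := (Subgroup.mem_inf.1 hm').1
    rw [heq] at h1
    rwa [show inclM (xU g R ⟨s, hs⟩ (ι₀ c)) = g.xG s (c : k) from map_xU g incl ⟨s, hs⟩ (ι₀ c)] at h1
  · obtain ⟨m', hm', rfl⟩ := hsurj m hm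
    obtain ⟨x, hx⟩ := hlift m' hm' i j
    have h1 := hfix m' hm' i j
    rw [← hx, ← map_pow] at h1
    have h2 := congrArg (fun y : K₀ => (y : k)) (hinj _ _ h1)
    show (((m' : Matrix D.Idx D.Idx R) i j : R) : k) ^ q ^ d = ((m' : Matrix D.Idx D.Idx R) i j : R)
    rw [← hx]
    exact (SubmonoidClass.coe_pow x (q ^ d)).symm.trans h2

end CfsgLib.Chev.SubFin
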